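import Mathlib

/-!
# Orbit divisibility and the bounded Egyptian-fraction argument (for Brauer–Feit)
-/

namespace Cfsg.Agent.BrauerFeit

theorem card_dvd_sum_of_invariant {H α : Type*} [Group H] [Finite H] [MulAction H α]
    (D : ℕ) (f : α → ℕ) :
    ∀ s : Finset α, (∀ (h : H), ∀ x ∈ s, h • x ∈ s) → (∀ (h : H), ∀ x ∈ s, f (h • x) = f x) →
      (∀ x ∈ s, Nat.card (MulAction.stabilizer H x) ∣ D * f x) →
      Nat.card H ∣ D * ∑ x ∈ s, f x := by
  intro s
  induction s using Finset.strongInduction with
  | H s ih =>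
    intro hs hf hst
    classical
    rcases s.eq_empty_or_nonempty with rfl | ⟨x, hx⟩
    · simp
    have : Fintype H := Fintype.ofFinite H
    let o : Finset α := Finset.univ.image fun h : H => h • x
    have hos : o ⊆ s := fun y hy => by
      obtain ⟨h, _, rfl⟩ := Finset.mem_image.mp hy
      exact hs h x hx
    have hxo : x ∈ o := Finset.mem_image.mpr ⟨1, Finset.mem_univ _, one_smul _ _⟩
    have ho : ∀ (h : H), ∀ y ∈ o, h • y ∈ o := fun h y hy => by
      obtain ⟨k, _, rfl⟩ := Finset.mem_image.mp hy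
      exact Finset.mem_image.mpr ⟨h * k, Finset.mem_univ _, mul_smul _ _ _⟩
    have hsum : ∑ y ∈ o, f y = o.card * f x := by
      rw [Finset.sum_const_nat]
      intro y hy
      obtain ⟨h, _, rfl⟩ := Finset.mem_image.mp hy
      exact hf h x hx
    have hcard : o.card * Nat.card (MulAction.stabilizer H x) = Nat.card H := by
      have hc : o.card = (MulAction.orbit H x).ncard := by
        rw [← Set.ncard_coe_finset]
        congr 1
        ext y
        simp [o, MulAction.mem_orbit_iff]
      rw [hc, ← MulAction.index_stabilizer, mul_comm, Subgroup.card_mul_index]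
    have h2 : Nat.card H ∣ D * ∑ y ∈ o, f y := by
      rw [hsum, mul_left_comm, ← hcard]
      exact mul_dvd_mul_left _ (hst x hx)
    have h1 := ih (s \ o) (Finset.sdiff_ssubset hos ⟨x, hxo⟩)
      (fun h y hy => by
        rw [Finset.mem_sdiff] at hy ⊢
        refine ⟨hs h y hy.1, fun hc => hy.2 ?_⟩
        simpa using ho h⁻¹ _ hc)
      (fun h y hy => hf h y (Finset.mem_sdiff.mp hy).1)
      (fun y hy => hst y (Finset.mem_sdiff.mp hy).1)
    rw [← Finset.sum_sdiff hos, mul_add]
    exact dvd_add h1 h2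

theorem egyptian (R : ℕ) : ∀ r D : ℕ, 0 < D → ∃ F : ℕ, ∀ (α : Type*) (X : Finset α) (σ : α → ℕ)
    (g : ℕ), 0 < g → (X.image σ).card ≤ r → (g : ℤ) ∣ (D : ℤ) * ((X.card : ℤ) - 1) →
    (∀ v : ℕ, g ∣ v * (X.filter fun x => σ x = v).card) → (∑ x ∈ X, σ x) ≤ R * g →
    (∀ x ∈ X, 0 < σ x) → g ≤ F ∨ ∃ x ∈ X, g ≤ σ x := by
  intro r
  induction r with
  | zero =>
    intro D hD
    refine ⟨D, fun α X σ g hg hr hdvd hfib hsum hpos => Or.inl ?_⟩
    have hX : X = ∅ := by
      rw [← Finset.image_eq_empty (f := σ)]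
      exact Finset.card_eq_zero.mp (Nat.le_zero.mp hr)
    subst hX
    rw [Finset.card_empty, Nat.cast_zero, zero_sub, mul_neg_one, dvd_neg,
      Int.natCast_dvd_natCast] at hdvd
    exact Nat.le_of_dvd hD hdvd
  | succ r ih =>
    intro D hD
    obtain ⟨F, hF⟩ := ih (D * (D * R).factorial) (Nat.mul_pos hD (Nat.factorial_pos _))
    refine ⟨max D F, fun α X σ g hg hr hdvd hfib hsum hpos => ?_⟩
    classical
    rcases X.eq_empty_or_nonempty with rfl | hne
    · rw [Finset.card_empty, Nat.cast_zero, zero_sub, mul_neg_one, dvd_neg,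
        Int.natCast_dvd_natCast] at hdvd
      exact Or.inl (le_trans (Nat.le_of_dvd hD hdvd) (le_max_left _ _))
    obtain ⟨x0, hx0, hmin⟩ := X.exists_min_image σ hne
    by_cases h1 : X.card = 1
    · refine Or.inr ⟨x0, hx0, Nat.le_of_dvd (hpos x0 hx0) ?_⟩
      have := hfib (σ x0)
      have hf1 : (X.filter fun x => σ x = σ x0).card = 1 := by
        apply le_antisymm
        · exact h1 ▸ Finset.card_le_card (Finset.filter_subset _ _)
        · exact Finset.card_pos.mpr ⟨x0, Finset.mem_filter.mpr ⟨hx0, rfl⟩⟩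
      rwa [hf1, mul_one] at this
    have h2 : 2 ≤ X.card := by have := hne.card_pos; omega
    by_cases hv : σ x0 ≤ D * R
    · set X' := X.filter fun x => σ x ≠ σ x0 with hX'
      set Fb := X.filter fun x => σ x = σ x0 with hFb
      have hadd : X.card = Fb.card + X'.card :=
        (Finset.card_filter_add_card_filter_not (fun x => σ x = σ x0)).symm
      have hr' : (X'.image σ).card ≤ r := by
        have hsub : X'.image σ ⊆ (X.image σ).erase (σ x0) := by
          intro v hv'
          obtain ⟨x, hx, rfl⟩ := Finset.mem_image.mp hv'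
          rw [hX', Finset.mem_filter] at hx
          exact Finset.mem_erase.mpr ⟨hx.2, Finset.mem_image_of_mem σ hx.1⟩
        have := Finset.card_le_card hsub
        rw [Finset.card_erase_of_mem (Finset.mem_image_of_mem σ hx0)] at this
        omega
      have hfb : g ∣ (D * R).factorial * Fb.card :=
        (hfib (σ x0)).trans (mul_dvd_mul_right (Nat.dvd_factorial (hpos x0 hx0) hv) _)
      have hdvd' : (g : ℤ) ∣ ((D * (D * R).factorial : ℕ) : ℤ) * ((X'.card : ℤ) - 1) := by
        have e : ((D * (D * R).factorial : ℕ) : ℤ) * ((X'.card : ℤ) - 1) =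
            ((D * R).factorial : ℤ) * ((D : ℤ) * ((X.card : ℤ) - 1)) -
              (D : ℤ) * (((D * R).factorial * Fb.card : ℕ) : ℤ) := by
          rw [hadd]; push_cast; ring
        rw [e]
        exact dvd_sub (dvd_mul_of_dvd_right hdvd _)
          (dvd_mul_of_dvd_right (Int.natCast_dvd_natCast.mpr hfb) _)
      have hfib' : ∀ v : ℕ, g ∣ v * (X'.filter fun x => σ x = v).card := by
        intro v
        by_cases hv' : v = σ x0
        · subst hv'
          have : (X'.filter fun x => σ x = σ x0) = ∅ := by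
            rw [hX', Finset.filter_filter, Finset.filter_eq_empty_iff]
            rintro x _ ⟨a, b⟩
            exact a b
          simp [this]
        · have : (X'.filter fun x => σ x = v) = X.filter fun x => σ x = v := by
            rw [hX', Finset.filter_filter]
            refine Finset.filter_congr fun x _ => ⟨fun h => h.2, fun h => ⟨h ▸ hv', h⟩⟩
          rw [this]; exact hfib v
      rcases hF α X' σ g hg hr' hdvd' hfib'
        (le_trans (Finset.sum_le_sum_of_subset (Finset.filter_subset _ _)) hsum)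
        (fun x hx => hpos x (Finset.mem_filter.mp hx).1) with h | ⟨x, hx, h⟩
      · exact Or.inl (le_trans h (le_max_right _ _))
      · exact Or.inr ⟨x, (Finset.mem_filter.mp hx).1, h⟩
    · exfalso
      have hs : X.card * σ x0 ≤ R * g := le_trans
        (by simpa using Finset.card_nsmul_le_sum X σ (σ x0) hmin) hsum
      have hd : g ≤ D * (X.card - 1) := by
        refine Nat.le_of_dvd (Nat.mul_pos hD (by omega)) ?_
        rw [← Int.natCast_dvd_natCast, Nat.cast_mul, Nat.cast_sub (by omega)]
        simpa using hdvd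
      have h3 : g * σ x0 ≤ D * (X.card - 1) * σ x0 := Nat.mul_le_mul_right _ hd
      have h4 : D * (X.card - 1) * σ x0 < D * X.card * σ x0 :=
        Nat.mul_lt_mul_of_pos_right (Nat.mul_lt_mul_of_pos_left (by omega) hD) (hpos x0 hx0)
      have h5 : D * X.card * σ x0 ≤ D * R * g := by
        rw [mul_assoc, mul_assoc]; exact Nat.mul_le_mul_left _ hs
      have h6 : D * R * g ≤ σ x0 * g := Nat.mul_le_mul_right _ (by omega)
      rw [mul_comm g] at h3
      omega

theorem card_image_le_of_sum {α : Type*} (X : Finset α) (σ : α → ℕ) (g R : ℕ) (hg : 0 < g)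
    (hfib : ∀ v : ℕ, g ∣ v * (X.filter fun x => σ x = v).card) (hsum : (∑ x ∈ X, σ x) ≤ R * g)
    (hpos : ∀ x ∈ X, 0 < σ x) : (X.image σ).card ≤ R := by
  classical
  refine Nat.le_of_mul_le_mul_right (le_trans ?_ hsum) hg
  rw [← Finset.sum_fiberwise_of_maps_to (g := σ) (t := X.image σ)
    (fun x hx => Finset.mem_image_of_mem σ hx), ← smul_eq_mul]
  refine Finset.card_nsmul_le_sum _ _ _ fun v hv => ?_
  obtain ⟨x, hx, rfl⟩ := Finset.mem_image.mp hv
  rw [Finset.sum_const_nat (m := σ x) (fun y hy => (Finset.mem_filter.mp hy).2), mul_comm]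
  exact Nat.le_of_dvd (Nat.mul_pos (hpos x hx) (Finset.card_pos.mpr
    ⟨x, Finset.mem_filter.mpr ⟨hx, rfl⟩⟩)) (hfib (σ x))

end Cfsg.Agent.BrauerFeit
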