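import Cfsg.Agent.Lib.CT.BrauerFeit.Arith

/-!
# Jordan-style counting: a bounded-index abelian subgroup from abelian centraliser structure

If every element outside a central subgroup `Z` has a centraliser with an abelian subgroup of
bounded index (plus three bounded-rank conditions), then the group has an abelian subgroup of
bounded index.
-/

namespace Cfsg.Agent.BrauerFeit

set_option linter.unusedSectionVars false

variable {G : Type*} [Group G] [Finite G] {b n o q : ℕ}

/-- Hypotheses of the counting argument. -/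
structure Setup (G : Type*) [Group G] (b n o q : ℕ) where
  Z : Subgroup G
  T : Subgroup G → Prop
  Z_center : Z ≤ Subgroup.center G
  T_Z : T Z
  T_le : ∀ A, T A → Z ≤ A
  T_comm : ∀ A, T A → ∀ x ∈ A, ∀ y ∈ A, Commute x y
  T_anti : ∀ A B, T A → B ≤ A → Z ≤ B → T B
  T_conj : ∀ A (g : G), T A → T (A.map (MulAut.conj g).toMonoidHom)
  cent : ∀ x, x ∉ Z → ∃ A, T A ∧ A ≤ Subgroup.centralizer {x} ∧
    Nat.card (Subgroup.centralizer ({x} : Set G)) ≤ b * Nat.card A
  rank : ∀ A B : Subgroup G, ∀ e : ℕ, T A → 0 < e → Z ≤ B → (∀ a ∈ A, a ^ e ∈ B) →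
    Nat.card A ≤ e ^ n * Nat.card (A ⊓ B : Subgroup G)
  orb : ∀ (A : Subgroup G) (y : G) (S : Subgroup G), T A → y ∈ A →
    (∀ s ∈ S, s * y * s⁻¹ ∈ A) →
    Nat.card S ≤ o * Nat.card (Subgroup.centralizer ({y} : Set G))
  twist : ∀ x, x ∉ Z →
    Nat.card {g : G // g * x * g⁻¹ * x⁻¹ ∈ Z} ≤ q * Nat.card (Subgroup.centralizer ({x} : Set G))

theorem mem_map_conj {A : Subgroup G} {g y : G} :
    y ∈ A.map (MulAut.conj g).toMonoidHom ↔ g⁻¹ * y * g ∈ A := by
  constructor
  · rintro ⟨a, ha, rfl⟩; simpa [mul_assoc] using ha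
  · intro h; exact ⟨_, h, by simp [mul_assoc]⟩

theorem conj_mem_map_conj {A : Subgroup G} {g a : G} (ha : a ∈ A) :
    g * a * g⁻¹ ∈ A.map (MulAut.conj g).toMonoidHom :=
  mem_map_conj.mpr (by simpa [mul_assoc] using ha)

theorem card_map_conj (A : Subgroup G) (g : G) :
    Nat.card (A.map (MulAut.conj g).toMonoidHom) = Nat.card A :=
  (Nat.card_congr (A.equivMapOfInjective _ (MulEquiv.injective _)).toEquiv).symm

theorem map_conj_conj (A : Subgroup G) (g h : G) :
    (A.map (MulAut.conj h).toMonoidHom).map (MulAut.conj g).toMonoidHom =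
      A.map (MulAut.conj (g * h)).toMonoidHom := by
  ext y; simp only [mem_map_conj, mul_inv_rev, mul_assoc]

theorem map_conj_one (A : Subgroup G) : A.map (MulAut.conj (1 : G)).toMonoidHom = A := by
  ext y; simp

theorem pow_factorial_mem {H K : Subgroup G} (hle : H ≤ K) {c : ℕ}
    (hc : Nat.card K ≤ c * Nat.card H) {a : G} (ha : a ∈ K) : a ^ c.factorial ∈ H := by
  have h1 : Nat.card H * H.relIndex K = Nat.card K := by
    rw [Subgroup.relIndex, ← Nat.card_congr (Subgroup.subgroupOfEquivOfLe hle).toEquiv]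
    exact Subgroup.card_mul_index _
  have h2 : H.relIndex K ≤ c := by
    refine Nat.le_of_mul_le_mul_left ?_ (Nat.card_pos (α := H))
    rw [h1, mul_comm]; exact hc
  have h3 : H.relIndex K ≠ 0 := by
    intro h
    rw [h, mul_zero] at h1
    exact (Nat.card_pos (α := K)).ne h1
  exact (Subgroup.pow_mem_of_relIndex_ne_zero_of_dvd h3 ha
    fun m hm hm' => Nat.dvd_factorial hm (hm'.trans h2)).1

namespace Setup

variable (S : Setup G b n o q)

def Meets (A B : Subgroup G) : Prop := ∃ w, w ∈ A ∧ w ∈ B ∧ w ∉ S.Z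

theorem Meets.symm {A B : Subgroup G} (h : S.Meets A B) : S.Meets B A :=
  let ⟨w, a, b, c⟩ := h; ⟨w, b, a, c⟩

theorem Meets.mono {A B B' : Subgroup G} (h : S.Meets A B) (hle : B ≤ B') : S.Meets A B' :=
  let ⟨w, a, b, c⟩ := h; ⟨w, a, hle b, c⟩

theorem meets_of_card {A B : Subgroup G}
    (h : Nat.card S.Z < Nat.card (A ⊓ B : Subgroup G)) : S.Meets A B := by
  by_contra hc
  refine absurd (Subgroup.card_le_of_le (H := A ⊓ B) (K := S.Z) fun w hw => ?_) (not_le.mpr h)
  by_contra hw'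
  exact hc ⟨w, hw.1, hw.2, hw'⟩

theorem meets_map_conj {A B : Subgroup G} (g : G) (h : S.Meets A B) :
    S.Meets (A.map (MulAut.conj g).toMonoidHom) (B.map (MulAut.conj g).toMonoidHom) := by
  obtain ⟨w, a, b, c⟩ := h
  refine ⟨g * w * g⁻¹, conj_mem_map_conj a, conj_mem_map_conj b, fun hz => c ?_⟩
  have := Subgroup.mem_center_iff.mp (S.Z_center hz) g
  have e : g * w * g⁻¹ = w := mul_left_cancel (a := g) (this.trans (by group))
  rwa [e] at hz

def Big (M : ℕ) (A : Subgroup G) : Prop := S.T A ∧ M * Nat.card S.Z < Nat.card A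

theorem meets_of_pow {M e : ℕ} {A B : Subgroup G} (hA : S.Big M A) (he : 0 < e) (hM : e ^ n ≤ M)
    (hB : S.Z ≤ B) (hp : ∀ a ∈ A, a ^ e ∈ B) : S.Meets A B := by
  refine S.meets_of_card (Nat.lt_of_mul_lt_mul_left (a := e ^ n) ?_)
  calc e ^ n * Nat.card S.Z ≤ M * Nat.card S.Z := Nat.mul_le_mul_right _ hM
    _ < Nat.card A := hA.2
    _ ≤ _ := S.rank A B e hA.1 he hB hp

noncomputable def K {x : G} (hx : x ∉ S.Z) : Subgroup G := (S.cent x hx).choose

theorem K_T {x : G} (hx : x ∉ S.Z) : S.T (S.K hx) := (S.cent x hx).choose_spec.1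

theorem K_le {x : G} (hx : x ∉ S.Z) : S.K hx ≤ Subgroup.centralizer {x} :=
  (S.cent x hx).choose_spec.2.1

theorem card_cent_le {x : G} (hx : x ∉ S.Z) :
    Nat.card (Subgroup.centralizer ({x} : Set G)) ≤ b * Nat.card (S.K hx) :=
  (S.cent x hx).choose_spec.2.2

theorem mem_cent {x : G} {A : Subgroup G} (hA : S.T A) (hxA : x ∈ A) :
    A ≤ Subgroup.centralizer {x} := fun a ha =>
  Subgroup.mem_centralizer_singleton_iff.mpr (S.T_comm A hA a ha x hxA).eq

theorem pow_mem_K {x a : G} (hx : x ∉ S.Z) (ha : a ∈ Subgroup.centralizer ({x} : Set G)) :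
    a ^ b.factorial ∈ S.K hx :=
  pow_factorial_mem (S.K_le hx) (S.card_cent_le hx) ha

variable (b n) in
/-- The exponent `Q`. -/
def _root_.Cfsg.Agent.BrauerFeit.qExp : ℕ := b.factorial * ((b.factorial ^ n).factorial)

theorem _root_.Cfsg.Agent.BrauerFeit.qExp_pos : 0 < qExp b n :=
  Nat.mul_pos (Nat.factorial_pos _) (Nat.factorial_pos _)

def Top (M : ℕ) (A : Subgroup G) : Prop :=
  S.Big M A ∧ ∀ B, S.Big M B → S.Meets A B → Nat.card B ≤ Nat.card A

variable {M : ℕ}

theorem fac_le (hM : (b.factorial * qExp b n) ^ n ≤ M) : b.factorial ^ n ≤ M :=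
  le_trans (Nat.pow_le_pow_left (Nat.le_mul_of_pos_right _ qExp_pos) _) hM

theorem qexp_le (hM : (b.factorial * qExp b n) ^ n ≤ M) : qExp b n ^ n ≤ M :=
  le_trans (Nat.pow_le_pow_left (Nat.le_mul_of_pos_left _ (Nat.factorial_pos _)) _) hM

theorem one_le_M (hM : (b.factorial * qExp b n) ^ n ≤ M) : 1 ≤ M :=
  le_trans (Nat.one_le_pow _ _ (Nat.mul_pos (Nat.factorial_pos _) qExp_pos)) hM

variable (hM : (b.factorial * qExp b n) ^ n ≤ M)
include hM

theorem top_K {A : Subgroup G} {w : G} (hA : S.Top M A) (hwA : w ∈ A) (hw : w ∉ S.Z) :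
    S.Meets A (S.K hw) ∧ Nat.card (S.K hw) ≤ Nat.card A := by
  have hm : S.Meets A (S.K hw) :=
    S.meets_of_pow hA.1 (Nat.factorial_pos _) (fac_le hM) (S.T_le _ (S.K_T hw))
      fun a ha => S.pow_mem_K hw (S.mem_cent hA.1.1 hwA ha)
  refine ⟨hm, ?_⟩
  by_cases hb : S.Big M (S.K hw)
  · exact hA.2 _ hb hm
  · have : Nat.card (S.K hw) ≤ M * Nat.card S.Z := not_lt.mp fun h => hb ⟨S.K_T hw, h⟩
    exact le_trans this hA.1.2.le

theorem pow_mem {A B : Subgroup G} (hA : S.Top M A) (hB : S.T B) (hm : S.Meets A B) {x : G}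
    (hx : x ∈ B) : x ^ qExp b n ∈ A := by
  obtain ⟨w, hwA, hwB, hw⟩ := hm
  obtain ⟨-, hle⟩ := S.top_K hM hA hwA hw
  have h1 : Nat.card A ≤ b.factorial ^ n * Nat.card (A ⊓ S.K hw : Subgroup G) :=
    S.rank A _ _ hA.1.1 (Nat.factorial_pos _) (S.T_le _ (S.K_T hw))
      fun a ha => S.pow_mem_K hw (S.mem_cent hA.1.1 hwA ha)
  have h2 := pow_factorial_mem (H := A ⊓ S.K hw) inf_le_right (le_trans hle h1)
    (S.pow_mem_K hw (S.mem_cent hB hwB hx))
  rw [qExp, pow_mul]
  exact h2.1

theorem propagate {A B C : Subgroup G} (hA : S.Top M A) (hB : S.Big M B) (hC : S.Big M C)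
    (hAB : S.Meets A B) (hBC : S.Meets B C) : S.Meets A C := by
  obtain ⟨w, hwB, hwC, hw⟩ := hBC
  have h1 : S.Meets B (A ⊓ S.K hw) := by
    refine S.meets_of_pow hB (Nat.mul_pos (Nat.factorial_pos _) qExp_pos) hM
      (le_inf (S.T_le _ hA.1.1) (S.T_le _ (S.K_T hw))) fun x hx => ⟨?_, ?_⟩
    · rw [mul_comm, pow_mul]; exact A.pow_mem (S.pow_mem hM hA hB.1 hAB hx) _
    · rw [pow_mul]; exact (S.K hw).pow_mem (S.pow_mem_K hw (S.mem_cent hB.1 hwB hx)) _
  have h2 : S.Meets A (S.K hw) := by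
    obtain ⟨u, -, hu, hu'⟩ := h1
    exact ⟨u, hu.1, hu.2, hu'⟩
  have h3 : S.Meets C A := by
    refine S.meets_of_pow hC (Nat.mul_pos (Nat.factorial_pos _) qExp_pos) hM
      (S.T_le _ hA.1.1) fun x hx => ?_
    rw [pow_mul]
    exact S.pow_mem hM hA (S.K_T hw) h2 (S.pow_mem_K hw (S.mem_cent hC.1 hwC hx))
  exact h3.symm

theorem meets_self {A : Subgroup G} (hA : S.Big M A) : S.Meets A A := by
  refine S.meets_of_card ?_
  rw [inf_idem]
  exact lt_of_le_of_lt (Nat.le_mul_of_pos_left _ (one_le_M hM)) hA.2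

theorem exists_top {B : Subgroup G} (hB : S.Big M B) : ∃ A, S.Top M A ∧ S.Meets A B := by
  classical
  have : Fintype (Subgroup G) := Fintype.ofFinite _
  let adj : Subgroup G → Subgroup G → Prop := fun X Y => S.Big M X ∧ S.Big M Y ∧ S.Meets X Y
  let reach := (Finset.univ : Finset (Subgroup G)).filter fun X => Relation.ReflTransGen adj B X
  obtain ⟨A, hA, hmax⟩ := reach.exists_max_image (fun X : Subgroup G => Nat.card X)
    ⟨B, Finset.mem_filter.mpr ⟨Finset.mem_univ _, .refl⟩⟩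
  have hA' := (Finset.mem_filter.mp hA).2
  have hAbig : S.Big M A := by
    rcases Relation.ReflTransGen.cases_tail hA' with h | ⟨X, -, h⟩
    · exact h ▸ hB
    · exact h.2.1
  have htop : S.Top M A := ⟨hAbig, fun D hD hmD => hmax D (Finset.mem_filter.mpr
    ⟨Finset.mem_univ _, hA'.tail ⟨hAbig, hD, hmD⟩⟩)⟩
  refine ⟨A, htop, ?_⟩
  clear hmax hA reach hB
  induction hA' using Relation.ReflTransGen.head_induction_on with
  | refl => exact S.meets_self hM hAbig
  | head hXY _ ihY => exact S.propagate hM htop hXY.2.1 hXY.1 ihY hXY.2.2.symm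

omit hM

/-- The core of the family of a top subgroup. -/
def E (M : ℕ) (A : Subgroup G) : Subgroup G := sInf {A' | S.Top M A' ∧ S.Meets A A'}

theorem Z_le_E {A : Subgroup G} : S.Z ≤ S.E M A :=
  le_sInf fun _ h => S.T_le _ h.1.1.1

include hM

theorem E_le {A : Subgroup G} (hA : S.Top M A) : S.E M A ≤ A :=
  sInf_le ⟨hA, S.meets_self hM hA.1⟩

theorem pow_mem_E {A : Subgroup G} (hA : S.Top M A) {a : G} (ha : a ∈ A) :
    a ^ qExp b n ∈ S.E M A :=
  Subgroup.mem_sInf.mpr fun _ h => S.pow_mem hM h.1 hA.1.1 h.2.symm ha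

theorem E_T {A : Subgroup G} (hA : S.Top M A) : S.T (S.E M A) :=
  S.T_anti A _ hA.1.1 (S.E_le hM hA) S.Z_le_E

theorem card_le_E {A : Subgroup G} (hA : S.Top M A) :
    Nat.card A ≤ qExp b n ^ n * Nat.card (S.E M A) :=
  le_trans (S.rank A _ _ hA.1.1 qExp_pos S.Z_le_E fun _ ha => S.pow_mem_E hM hA ha)
    (Nat.mul_le_mul_left _ (Subgroup.card_le_of_le inf_le_right))

theorem E_eq {A A' : Subgroup G} (hA : S.Top M A) (hA' : S.Top M A') (hm : S.Meets A A') :
    S.E M A = S.E M A' := by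
  refine congrArg sInf (Set.ext fun D => ⟨fun h => ⟨h.1, ?_⟩, fun h => ⟨h.1, ?_⟩⟩)
  · exact (S.propagate hM h.1 hA.1 hA'.1 h.2.symm hm).symm
  · exact (S.propagate hM h.1 hA'.1 hA.1 h.2.symm hm.symm).symm

omit hM

theorem top_conj {A : Subgroup G} (hA : S.Top M A) (g : G) :
    S.Top M (A.map (MulAut.conj g).toMonoidHom) := by
  have hbig : ∀ (X : Subgroup G) (h : G), S.Big M X →
      S.Big M (X.map (MulAut.conj h).toMonoidHom) := fun X h hX =>
    ⟨S.T_conj X h hX.1, by rw [card_map_conj]; exact hX.2⟩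
  refine ⟨hbig A g hA.1, fun B hB hm => ?_⟩
  have := hA.2 _ (hbig B g⁻¹ hB) (by
    have h := S.meets_map_conj g⁻¹ hm
    rwa [map_conj_conj, inv_mul_cancel, map_conj_one] at h)
  rwa [card_map_conj] at this ⊢

theorem E_conj (A : Subgroup G) (g : G) :
    (S.E M A).map (MulAut.conj g).toMonoidHom = S.E M (A.map (MulAut.conj g).toMonoidHom) := by
  have key : ∀ (X : Subgroup G) (h : G),
      (S.E M X).map (MulAut.conj h).toMonoidHom ≤ S.E M (X.map (MulAut.conj h).toMonoidHom) := by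
    intro X h y hy
    refine Subgroup.mem_sInf.mpr fun D hD => ?_
    rw [mem_map_conj] at hy
    have hm := S.meets_map_conj h⁻¹ hD.2
    rw [map_conj_conj, inv_mul_cancel, map_conj_one] at hm
    have := Subgroup.mem_sInf.mp hy _ ⟨S.top_conj hD.1 h⁻¹, hm⟩
    rw [mem_map_conj] at this
    simpa [mul_assoc] using this
  refine le_antisymm (key A g) ?_
  have := Subgroup.map_mono (f := (MulAut.conj g).toMonoidHom)
    (key (A.map (MulAut.conj g).toMonoidHom) g⁻¹)
  rw [map_conj_conj (g := g⁻¹) (h := g), inv_mul_cancel, map_conj_one, map_conj_conj,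
    mul_inv_cancel, map_conj_one] at this
  exact this

include hM

theorem card_normalizer_le {A : Subgroup G} (hA : S.Top M A)
    (hE : Nat.card S.Z < Nat.card (S.E M A)) :
    Nat.card (Subgroup.normalizer ((S.E M A : Subgroup G) : Set G)) ≤
      o * b * qExp b n ^ n * Nat.card (S.E M A) := by
  obtain ⟨y, hy, hy'⟩ : ∃ y ∈ S.E M A, y ∉ S.Z := by
    by_contra h
    push Not at h
    exact absurd (Subgroup.card_le_of_le h) (not_le.mpr hE)
  refine le_trans (S.orb A y _ hA.1.1 (S.E_le hM hA hy) fun s hs =>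
    S.E_le hM hA ((Subgroup.mem_normalizer_iff.mp hs y).mp hy)) ?_
  calc o * Nat.card (Subgroup.centralizer ({y} : Set G))
      ≤ o * (b * Nat.card (S.K hy')) := Nat.mul_le_mul_left _ (S.card_cent_le hy')
    _ ≤ o * (b * (qExp b n ^ n * Nat.card (S.E M A))) :=
        Nat.mul_le_mul_left _ (Nat.mul_le_mul_left _
          (le_trans (S.top_K hM hA (S.E_le hM hA hy) hy').2 (S.card_le_E hM hA)))
    _ = _ := by ring

omit hM

/-- The elements attached to a family. -/
noncomputable def U (M' : ℕ) (E : Subgroup G) : Finset G :=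
  letI := Fintype.ofFinite G
  open Classical in
  Finset.univ.filter fun x => x ∈ Subgroup.normalizer (E : Set G) ∧
    M' * Nat.card S.Z < Nat.card (Subgroup.centralizer ({x} : Set G) ⊓ E : Subgroup G)

theorem mem_U {M' : ℕ} {E : Subgroup G} {x : G} : x ∈ S.U M' E ↔
    x ∈ Subgroup.normalizer (E : Set G) ∧
    M' * Nat.card S.Z < Nat.card (Subgroup.centralizer ({x} : Set G) ⊓ E : Subgroup G) := by
  classical
  simp [U]

theorem conj_mem_U {M' : ℕ} {E : Subgroup G} {x : G} (g : G) (hx : x ∈ S.U M' E) :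
    g * x * g⁻¹ ∈ S.U M' (E.map (MulAut.conj g).toMonoidHom) := by
  rw [mem_U] at hx ⊢
  constructor
  · rw [Subgroup.mem_normalizer_iff]
    intro h
    rw [mem_map_conj, mem_map_conj,
      show g⁻¹ * (g * x * g⁻¹ * h * (g * x * g⁻¹)⁻¹) * g = x * (g⁻¹ * h * g) * x⁻¹ by group]
    exact Subgroup.mem_normalizer_iff.mp hx.1 _
  · refine lt_of_lt_of_le hx.2 ?_
    rw [← card_map_conj _ g]
    refine Subgroup.card_le_of_le fun y hy => ?_
    obtain ⟨a, ha, rfl⟩ := hy
    refine ⟨Subgroup.mem_centralizer_singleton_iff.mpr ?_, ⟨a, ha.2, rfl⟩⟩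
    have e := Subgroup.mem_centralizer_singleton_iff.mp ha.1
    simp only [MulEquiv.coe_toMonoidHom, MulAut.conj_apply]
    calc g * a * g⁻¹ * (g * x * g⁻¹) = g * (a * x) * g⁻¹ := by group
      _ = g * (x * a) * g⁻¹ := by rw [e]
      _ = g * x * g⁻¹ * (g * a * g⁻¹) := by group

theorem mul_mem_U {M' : ℕ} {E : Subgroup G} (hE : ∀ x ∈ E, ∀ y ∈ E, Commute x y) {e x : G}
    (he : e ∈ E) (hx : x ∈ S.U M' E) : e * x ∈ S.U M' E := by
  rw [mem_U] at hx ⊢
  refine ⟨mul_mem (Subgroup.le_normalizer he) hx.1, lt_of_lt_of_le hx.2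
    (Subgroup.card_le_of_le fun y hy => ⟨Subgroup.mem_centralizer_singleton_iff.mpr ?_, hy.2⟩)⟩
  have e1 := Subgroup.mem_centralizer_singleton_iff.mp hy.1
  rw [← mul_assoc, (hE y hy.2 e he).eq, mul_assoc, e1, mul_assoc]

theorem card_dvd_U {M' : ℕ} {E : Subgroup G} (hE : ∀ x ∈ E, ∀ y ∈ E, Commute x y) :
    Nat.card E ∣ (S.U M' E).card := by
  have := card_dvd_sum_of_invariant (H := E) (α := G) 1 (fun _ => 1) (S.U M' E)
    (fun h x hx => by rw [Subgroup.smul_def, smul_eq_mul]; exact S.mul_mem_U hE h.2 hx)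
    (fun _ _ _ => rfl) (fun x _ => by
      have : MulAction.stabilizer E x = ⊥ := by
        ext h
        rw [MulAction.mem_stabilizer_iff, Subgroup.mem_bot, Subgroup.smul_def, smul_eq_mul,
          mul_eq_right, OneMemClass.coe_eq_one]
      rw [this]; simp)
  simpa using this

end Setup

/-- The action of `G × Z` by conjugation and central translation. -/
@[instance_reducible] def twistAction (S : Setup G b n o q) : MulAction (G × S.Z) G where
  smul p x := (p.2 : G) * (p.1 * x * p.1⁻¹)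
  one_smul x := by show (1 : G) * (1 * x * 1⁻¹) = x; group
  mul_smul p p' x := by
    show ((p.2 * p'.2 : S.Z) : G) * (p.1 * p'.1 * x * (p.1 * p'.1)⁻¹) =
      (p.2 : G) * (p.1 * ((p'.2 : G) * (p'.1 * x * p'.1⁻¹)) * p.1⁻¹)
    have h : p.1 * (p'.2 : G) = (p'.2 : G) * p.1 :=
      Subgroup.mem_center_iff.mp (S.Z_center p'.2.2) _
    rw [← mul_assoc p.1 (p'.2 : G), h, Subgroup.coe_mul]
    group

/-- Conjugation on subgroups. -/
@[instance_reducible] def conjSubAction : MulAction G (Subgroup G) where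
  smul g A := A.map (MulAut.conj g).toMonoidHom
  one_smul A := map_conj_one A
  mul_smul g h A := (map_conj_conj A g h).symm

theorem bounded_index (b n o q : ℕ) : ∃ B : ℕ, ∀ (G : Type*) [Group G] [Finite G]
    (S : Setup G b n o q), ∃ A : Subgroup G, S.T A ∧ A.index ≤ B := by
  set N := b.factorial
  set Q := qExp b n
  have hQ : 0 < Q := qExp_pos
  set c := o * b * Q ^ n
  set M' := b * Q ^ n + N ^ n + 2 with hM'
  set M := M' * (Q * Q) ^ n + (N * Q) ^ n with hMdef
  set D := (q * (b * M)).factorial * c.factorial with hD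
  obtain ⟨F, hF⟩ := egyptian (2 * c) (2 * c) D (Nat.mul_pos (Nat.factorial_pos _) (Nat.factorial_pos _))
  refine ⟨F + c + 1, fun G _ _ S => ?_⟩
  classical
  have : Fintype G := Fintype.ofFinite G
  have : Fintype (Subgroup G) := Fintype.ofFinite _
  have hM : (b.factorial * qExp b n) ^ n ≤ M := Nat.le_add_left _ _
  have hM'1 : b.factorial ^ n ≤ M' := (Nat.le_add_left _ _).trans (Nat.le_add_right _ _)
  have hM'2 : b * Q ^ n ≤ M' := (Nat.le_add_right _ _).trans (Nat.le_add_right _ _)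
  have hM'3 : 2 ≤ M' := Nat.le_add_left _ _
  set z := Nat.card S.Z with hz
  have hzpos : 0 < z := Nat.card_pos
  set g := S.Z.index with hg
  have hgz : g * z = Nat.card G := S.Z.index_mul_card
  by_cases hgF : g ≤ F + c + 1
  · exact ⟨S.Z, S.T_Z, hgF⟩
  set XE : Finset (Subgroup G) := (Finset.univ.filter (S.Top M)).image (S.E M) with hXE
  have hmem : ∀ E ∈ XE, ∃ A, S.Top M A ∧ S.E M A = E := fun E hE => by
    obtain ⟨A, hA, rfl⟩ := Finset.mem_image.mp hE
    exact ⟨A, (Finset.mem_filter.mp hA).2, rfl⟩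
  have hEmem : ∀ A, S.Top M A → S.E M A ∈ XE := fun A hA =>
    Finset.mem_image_of_mem _ (Finset.mem_filter.mpr ⟨Finset.mem_univ _, hA⟩)
  -- size of the cores
  have hbig : ∀ A, S.Top M A → M' * z < Nat.card (S.E M A) := by
    intro A hA
    refine Nat.lt_of_mul_lt_mul_left (a := Q ^ n) (lt_of_le_of_lt ?_
      (lt_of_lt_of_le hA.1.2 (S.card_le_E hM hA)))
    rw [← mul_assoc]
    refine Nat.mul_le_mul_right _ (le_trans ?_ (Nat.le_add_right _ _))
    rw [mul_comm]
    exact Nat.mul_le_mul_left _ (Nat.pow_le_pow_left (Nat.le_mul_of_pos_left _ hQ) _)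
  have hzE : ∀ A, S.Top M A → z < Nat.card (S.E M A) := fun A hA =>
    lt_of_le_of_lt (Nat.le_mul_of_pos_left _ (by omega)) (hbig A hA)
  have hnorm : ∀ A, S.Top M A →
      Nat.card (Subgroup.normalizer ((S.E M A : Subgroup G) : Set G)) ≤ c * Nat.card (S.E M A) :=
    fun A hA => S.card_normalizer_le hM hA (hzE A hA)
  have hEsub : ∀ A, S.Top M A → ∀ e ∈ S.E M A, e ∈ S.U M' (S.E M A) := by
    intro A hA e he
    rw [Setup.mem_U]
    refine ⟨Subgroup.le_normalizer he, ?_⟩
    rw [inf_eq_right.mpr (S.mem_cent (S.E_T hM hA) he)]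
    exact hbig A hA
  -- the non-central parts of the `U`'s are disjoint
  let Zf : Finset G := Finset.univ.filter (· ∈ S.Z)
  have hZf : Zf.card = z := by rw [hz, Nat.card_eq_fintype_card, ← Fintype.card_subtype]
  have hdisj : (XE : Set (Subgroup G)).PairwiseDisjoint fun E => S.U M' E \ Zf := by
    intro E1 h1 E2 h2 hne
    obtain ⟨A1, hA1, rfl⟩ := hmem E1 h1
    obtain ⟨A2, hA2, rfl⟩ := hmem E2 h2
    rw [Function.onFun, Finset.disjoint_left]
    intro x hx1 hx2
    rw [Finset.mem_sdiff, Setup.mem_U] at hx1 hx2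
    have hxz : x ∉ S.Z := fun h => hx1.2 (Finset.mem_filter.mpr ⟨Finset.mem_univ _, h⟩)
    have hmeet : ∀ A, S.Top M A →
        M' * z < Nat.card (Subgroup.centralizer ({x} : Set G) ⊓ S.E M A : Subgroup G) →
        S.Meets A (S.K hxz) := by
      intro A hA hc
      have hT : S.T (Subgroup.centralizer ({x} : Set G) ⊓ S.E M A) :=
        S.T_anti _ _ (S.E_T hM hA) inf_le_right (le_inf
          (le_trans S.Z_center (Subgroup.center_le_centralizer _)) S.Z_le_E)
      have h' : S.Meets (Subgroup.centralizer ({x} : Set G) ⊓ S.E M A) (S.K hxz) :=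
        S.meets_of_pow (M := M') ⟨hT, hc⟩ (Nat.factorial_pos _) hM'1
          (S.T_le _ (S.K_T hxz)) fun a ha => S.pow_mem_K hxz ha.1
      obtain ⟨u, hu1, hu2, hu3⟩ := h'
      exact ⟨u, S.E_le hM hA hu1.2, hu2, hu3⟩
    have hm1 := hmeet A1 hA1 hx1.1.2
    have hm2 := hmeet A2 hA2 hx2.1.2
    have h12 : S.Meets (S.K hxz) (A1 ⊓ A2) := by
      refine S.meets_of_pow (M := Q ^ n) ⟨S.K_T hxz, ?_⟩ hQ le_rfl
        (le_inf (S.T_le _ hA1.1.1) (S.T_le _ hA2.1.1))
        fun a ha => ⟨S.pow_mem hM hA1 (S.K_T hxz) hm1 ha, S.pow_mem hM hA2 (S.K_T hxz) hm2 ha⟩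
      refine Nat.lt_of_mul_lt_mul_left (a := b) (lt_of_le_of_lt ?_ (lt_of_lt_of_le hx1.1.2
        (le_trans (Subgroup.card_le_of_le inf_le_left) (S.card_cent_le hxz))))
      rw [← mul_assoc]
      exact Nat.mul_le_mul_right _ hM'2
    obtain ⟨u, -, hu, hu'⟩ := h12
    exact hne (S.E_eq hM hA1 hA2 ⟨u, hu.1, hu.2, hu'⟩)
  -- the small elements
  let T0 : Finset G := Finset.univ.filter fun x => x ∉ S.Z ∧ ∀ E ∈ XE, x ∉ S.U M' E
  have hsmall : ∀ x ∈ T0, ∀ hxz : x ∉ S.Z, Nat.card (S.K hxz) ≤ M * z := by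
    intro x hx hxz
    by_contra hc
    have hKbig : S.Big M (S.K hxz) := ⟨S.K_T hxz, not_le.mp hc⟩
    obtain ⟨A, hA, hm⟩ := S.exists_top hM hKbig
    refine (Finset.mem_filter.mp hx).2.2 _ (hEmem A hA) (S.mem_U.mpr ⟨?_, ?_⟩)
    · rw [Subgroup.mem_normalizer_iff_map_conj_eq]
      refine (S.E_conj A x).trans (S.E_eq hM (S.top_conj hA x) hA ?_)
      obtain ⟨w, hwA, hwK, hw⟩ := hm
      refine ⟨w, mem_map_conj.mpr ?_, hwA, hw⟩
      have := Subgroup.mem_centralizer_singleton_iff.mp (S.K_le hxz hwK)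
      rwa [mul_assoc, this, inv_mul_cancel_left]
    · have hp : ∀ a ∈ S.K hxz,
          a ^ (Q * Q) ∈ Subgroup.centralizer ({x} : Set G) ⊓ S.E M A := fun a ha => by
        refine ⟨pow_mem (S.K_le hxz ha) _, ?_⟩
        rw [pow_mul]
        exact S.pow_mem_E hM hA (S.pow_mem hM hA (S.K_T hxz) hm ha)
      have h1 := S.rank _ _ (Q * Q) (S.K_T hxz) (Nat.mul_pos hQ hQ) (le_inf
        (le_trans S.Z_center (Subgroup.center_le_centralizer _)) S.Z_le_E) hp
      refine Nat.lt_of_mul_lt_mul_left (a := (Q * Q) ^ n) (lt_of_le_of_lt ?_ (lt_of_lt_of_le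
        hKbig.2 (le_trans h1 (Nat.mul_le_mul_left _ (Subgroup.card_le_of_le inf_le_right)))))
      rw [← mul_assoc, mul_comm _ M']
      exact Nat.mul_le_mul_right _ (Nat.le_add_right _ _)
  -- conjugation invariance
  have hXinv : ∀ (h : G), ∀ E ∈ XE, E.map (MulAut.conj h).toMonoidHom ∈ XE := by
    intro h E hE
    obtain ⟨A, hA, rfl⟩ := hmem E hE
    rw [S.E_conj]
    exact hEmem _ (S.top_conj hA h)
  have hUinv : ∀ (h : G) (E : Subgroup G),
      (S.U M' (E.map (MulAut.conj h).toMonoidHom)).card = (S.U M' E).card := by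
    have key : ∀ (h : G) (E : Subgroup G),
        (S.U M' E).card ≤ (S.U M' (E.map (MulAut.conj h).toMonoidHom)).card := fun h E =>
      Finset.card_le_card_of_injOn (fun x => h * x * h⁻¹) (fun x hx => S.conj_mem_U h hx)
        (fun x _ y _ e => mul_left_cancel (mul_right_cancel e))
    intro h E
    refine le_antisymm ?_ (key h E)
    have := key h⁻¹ (E.map (MulAut.conj h).toMonoidHom)
    rwa [map_conj_conj, inv_mul_cancel, map_conj_one] at this
  letI hact : MulAction G (Subgroup G) := conjSubAction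
  have hstab : ∀ E : Subgroup G, Nat.card (MulAction.stabilizer G E) =
      Nat.card (Subgroup.normalizer (E : Set G)) := by
    intro E
    refine Nat.card_congr (Equiv.subtypeEquivRight fun h => ?_)
    rw [MulAction.mem_stabilizer_iff, Subgroup.mem_normalizer_iff_map_conj_eq]
    rfl
  have hdvdU : Nat.card G ∣ D * ∑ E ∈ XE, (S.U M' E).card := by
    refine card_dvd_sum_of_invariant D _ XE (fun h E hE => hXinv h E hE)
      (fun h E _ => hUinv h E) fun E hE => ?_
    obtain ⟨A, hA, rfl⟩ := hmem E hE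
    rw [hstab]
    obtain ⟨t, ht⟩ := S.card_dvd_U (M' := M') (S.T_comm _ (S.E_T hM hA))
    obtain ⟨r, hr⟩ := Subgroup.card_dvd_of_le
      (Subgroup.le_normalizer (H := S.E M A))
    rw [ht, hr, mul_comm D, mul_assoc]
    refine mul_dvd_mul_left _ (dvd_mul_of_dvd_right (dvd_mul_of_dvd_right (Nat.dvd_factorial ?_ ?_) _) _)
    · rcases Nat.eq_zero_or_pos r with rfl | h
      · rw [mul_zero] at hr; exact absurd hr (Nat.card_pos).ne'
      · exact h
    · refine Nat.le_of_mul_le_mul_left ?_ (Nat.card_pos (α := S.E M A))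
      rw [← hr, mul_comm]
      exact hnorm A hA
  have hdvdT : Nat.card G ∣ D * T0.card := by
    letI : MulAction (G × S.Z) G := twistAction S
    have hsm : ∀ (p : G × S.Z) (x : G), p • x = (p.2 : G) * (p.1 * x * p.1⁻¹) := fun p x => rfl
    have := card_dvd_sum_of_invariant (H := G × S.Z) (z * D) (fun _ : G => 1) T0 ?_
      (fun _ _ _ => rfl) ?_
    · rw [Nat.card_prod, Finset.sum_const, smul_eq_mul, mul_one, mul_comm z D,
        mul_right_comm] at this
      exact (Nat.mul_dvd_mul_iff_right hzpos).mp this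
    · intro p x hx
      simp only [T0, Finset.mem_filter, Finset.mem_univ, true_and] at hx ⊢
      rw [hsm]
      have hpz : (p.2 : G) ∈ S.Z := p.2.2
      refine ⟨fun h => hx.1 ?_, fun E hE hU => ?_⟩
      · have h' : p.1 * x * p.1⁻¹ ∈ S.Z := (S.Z.mul_mem_cancel_left hpz).mp h
        have h'' := Subgroup.mem_center_iff.mp (S.Z_center h') p.1⁻¹
        have : x = p.1 * x * p.1⁻¹ := by
          have := congrArg (· * p.1) h''
          simp only [mul_assoc, inv_mul_cancel_left, inv_mul_cancel, mul_one] at this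
          rw [mul_assoc]; exact this
        rwa [this]
      · obtain ⟨A, hA, rfl⟩ := hmem E hE
        have h1 := S.mul_mem_U (S.T_comm _ (S.E_T hM hA))
          (inv_mem (S.Z_le_E hpz)) hU
        rw [inv_mul_cancel_left] at h1
        have h2 := S.conj_mem_U p.1⁻¹ h1
        refine hx.2 _ (hXinv p.1⁻¹ _ hE) ?_
        convert h2 using 1
        group
    · intro x hx
      have hxz : x ∉ S.Z := (Finset.mem_filter.mp hx).2.1
      set W := MulAction.stabilizer (G × S.Z) x with hW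
      have hfst : ∀ (p : G × S.Z), p ∈ W ↔ (p.2 : G) * (p.1 * x * p.1⁻¹) = x := fun p => Iff.rfl
      set C' := W.map (MonoidHom.fst G S.Z) with hC'
      have hcard : Nat.card W = Nat.card C' := by
        refine Nat.card_congr (Equiv.ofBijective
          (fun p => (⟨p.1.1, ⟨p.1, p.2, rfl⟩⟩ : C')) ⟨?_, ?_⟩)
        · rintro ⟨⟨a, s⟩, ha⟩ ⟨⟨a', s'⟩, ha'⟩ e
          have e' : a = a' := congrArg Subtype.val e
          subst e'
          have h1 := (hfst _).mp ha
          have h2 := (hfst _).mp ha'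
          have : s = s' := Subtype.ext (mul_right_cancel (h1.trans h2.symm))
          subst this
          rfl
        · rintro ⟨a, p, hp, rfl⟩
          exact ⟨⟨p, hp⟩, rfl⟩
      have hZC : S.Z ≤ C' := fun t ht => ⟨(t, 1), (hfst _).mpr (by
        have := Subgroup.mem_center_iff.mp (S.Z_center ht) x
        simp [← this, mul_assoc]), rfl⟩
      obtain ⟨s, hs⟩ := Subgroup.card_dvd_of_le hZC
      have hC'le : Nat.card C' ≤ q * (b * (M * z)) := by
        refine le_trans ?_ (le_trans (S.twist x hxz) (Nat.mul_le_mul_left _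
          (le_trans (S.card_cent_le hxz) (Nat.mul_le_mul_left _ (hsmall x hx hxz)))))
        refine Nat.card_le_card_of_injective (fun a : C' => (⟨a.1, ?_⟩ : {g : G // _}))
          (by intro a a' e; exact Subtype.ext (Subtype.ext_iff.mp e :))
        obtain ⟨a, p, hp, rfl⟩ := a
        have h1 : p.1 * x * p.1⁻¹ = (p.2 : G)⁻¹ * x := eq_inv_mul_of_mul_eq ((hfst p).mp hp)
        show p.1 * x * p.1⁻¹ * x⁻¹ ∈ S.Z
        rw [h1, mul_inv_cancel_right]
        exact inv_mem p.2.2
      rw [hcard, hs, mul_one]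
      refine mul_dvd_mul_left _ (dvd_mul_of_dvd_left (Nat.dvd_factorial ?_ ?_) _)
      · rcases Nat.eq_zero_or_pos s with rfl | h
        · rw [mul_zero] at hs; exact absurd hs (Nat.card_pos).ne'
        · exact h
      · refine Nat.le_of_mul_le_mul_left ?_ hzpos
        rw [← hs]
        refine hC'le.trans_eq ?_
        ring
  -- class equation
  have hUcard : ∀ E ∈ XE, (S.U M' E \ Zf).card + z = (S.U M' E).card := by
    intro E hE
    obtain ⟨A, hA, rfl⟩ := hmem E hE
    rw [← hZf]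
    exact Finset.card_sdiff_add_card_eq_card fun x hx =>
      hEsub A hA x (S.Z_le_E (Finset.mem_filter.mp hx).2)
  have hsplit : Nat.card G = z + T0.card + ∑ E ∈ XE, (S.U M' E \ Zf).card := by
    rw [Nat.card_eq_fintype_card, ← Finset.card_univ, ← hZf, ← Finset.card_biUnion hdisj,
      ← Finset.card_union_of_disjoint, ← Finset.card_union_of_disjoint]
    · congr 1
      ext x
      simp only [Finset.mem_univ, Finset.mem_union, Finset.mem_biUnion, Finset.mem_sdiff, Zf, T0,
        Finset.mem_filter, true_and, true_iff]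
      by_cases hxz : x ∈ S.Z
      · tauto
      · by_cases hU : ∃ E ∈ XE, x ∈ S.U M' E
        · obtain ⟨E, hE, hxE⟩ := hU; exact Or.inr ⟨E, hE, hxE, hxz⟩
        · push Not at hU; exact Or.inl (Or.inr ⟨hxz, hU⟩)
    · rw [Finset.disjoint_left]
      intro x hx hx'
      obtain ⟨E, hE, hxE⟩ := Finset.mem_biUnion.mp hx'
      rw [Finset.mem_sdiff] at hxE
      rcases Finset.mem_union.mp hx with h | h
      · exact hxE.2 h
      · exact (Finset.mem_filter.mp h).2.2 E hE hxE.1
    · rw [Finset.disjoint_left]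
      intro x hx hx'
      exact (Finset.mem_filter.mp hx').2.1 (Finset.mem_filter.mp hx).2
  have hsumU : ∑ E ∈ XE, (S.U M' E).card = ∑ E ∈ XE, (S.U M' E \ Zf).card + XE.card * z := by
    rw [← Finset.sum_congr rfl hUcard, Finset.sum_add_distrib, Finset.sum_const, smul_eq_mul]
  let σ : Subgroup G → ℕ := fun E => Nat.card (Subgroup.normalizer (E : Set G)) / z
  have hσ : ∀ E ∈ XE, σ E * z = Nat.card (Subgroup.normalizer (E : Set G)) := by
    intro E hE
    obtain ⟨A, hA, rfl⟩ := hmem E hE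
    exact Nat.div_mul_cancel (Subgroup.card_dvd_of_le (le_trans S.Z_le_E Subgroup.le_normalizer))
  have hdvd : (g : ℤ) ∣ (D : ℤ) * ((XE.card : ℤ) - 1) := by
    have h1 : ((Nat.card G : ℕ) : ℤ) ∣ (D : ℤ) * ((XE.card : ℤ) - 1) * (z : ℤ) := by
      have e : (D : ℤ) * ((XE.card : ℤ) - 1) * (z : ℤ) =
          ((D * T0.card : ℕ) : ℤ) + ((D * ∑ E ∈ XE, (S.U M' E).card : ℕ) : ℤ) -
            (D : ℤ) * ((Nat.card G : ℕ) : ℤ) := by
        rw [hsumU, hsplit]; push_cast; ring
      rw [e]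
      exact dvd_sub (dvd_add (Int.natCast_dvd_natCast.mpr hdvdT)
        (Int.natCast_dvd_natCast.mpr hdvdU)) (dvd_mul_left _ _)
    rw [← hgz, Nat.cast_mul] at h1
    exact Int.dvd_of_mul_dvd_mul_right (by exact_mod_cast hzpos.ne') h1
  have hfib : ∀ v : ℕ, g ∣ v * (XE.filter fun E => σ E = v).card := by
    intro v
    have := card_dvd_sum_of_invariant (H := G) (v * z) (fun _ : Subgroup G => 1)
      (XE.filter fun E => σ E = v) ?_ (fun _ _ _ => rfl) ?_
    · rw [Finset.sum_const, smul_eq_mul, mul_one, ← hgz, mul_right_comm v z] at this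
      exact (Nat.mul_dvd_mul_iff_right hzpos).mp this
    · intro h E hE
      rw [Finset.mem_filter] at hE ⊢
      refine ⟨hXinv h E hE.1, ?_⟩
      rw [← hE.2]
      have : h • E = E.map (MulAut.conj h).toMonoidHom := rfl
      simp only [σ, this, ← hstab]
      rw [← this]
      congr 1
      exact (Nat.card_congr (MulAction.stabilizerEquivStabilizer
        (show h • E = h • E from rfl)).toEquiv).symm
    · intro E hE
      rw [Finset.mem_filter] at hE
      rw [hstab, ← hσ E hE.1, hE.2, mul_one]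
  have hpos : ∀ E ∈ XE, 0 < σ E := by
    intro E hE
    rcases Nat.eq_zero_or_pos (σ E) with h | h
    · have := hσ E hE
      rw [h, zero_mul] at this
      exact absurd this.symm (Nat.card_pos).ne'
    · exact h
  have hsum : ∑ E ∈ XE, σ E ≤ 2 * c * g := by
    refine Nat.le_of_mul_le_mul_right ?_ hzpos
    rw [Finset.sum_mul, mul_assoc _ g z, hgz, hsplit, Finset.sum_congr rfl hσ]
    calc ∑ E ∈ XE, Nat.card (Subgroup.normalizer (E : Set G))
        ≤ ∑ E ∈ XE, 2 * c * (S.U M' E \ Zf).card := by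
          refine Finset.sum_le_sum fun E hE => ?_
          obtain ⟨A, hA, rfl⟩ := hmem E hE
          have h1 := hnorm A hA
          have h2 : Nat.card (S.E M A) ≤ (S.U M' (S.E M A)).card := by
            rw [Nat.card_eq_fintype_card]
            exact le_trans (Fintype.card_subtype _).le
              (Finset.card_le_card fun x hx => hEsub A hA x (Finset.mem_filter.mp hx).2)
          have h3 := hUcard _ (hEmem A hA)
          have h4 : 2 * z ≤ Nat.card (S.E M A) :=
            le_trans (Nat.mul_le_mul_right _ (by omega)) (hbig A hA).le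
          calc _ ≤ c * Nat.card (S.E M A) := h1
            _ ≤ c * (2 * (S.U M' (S.E M A) \ Zf).card) := Nat.mul_le_mul_left _ (by omega)
            _ = _ := by ring
      _ = 2 * c * ∑ E ∈ XE, (S.U M' E \ Zf).card := (Finset.mul_sum ..).symm
      _ ≤ _ := Nat.mul_le_mul_left _ (Nat.le_add_left _ _)
  have hgpos : 0 < g := by omega
  rcases hF _ XE σ g hgpos (card_image_le_of_sum XE σ g (2 * c) hgpos hfib hsum hpos) hdvd hfib
    hsum hpos with h | ⟨E, hE, hle⟩
  · omega
  obtain ⟨A, hA, rfl⟩ := hmem E hE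
  refine ⟨S.E M A, S.E_T hM hA, ?_⟩
  refine le_trans ?_ (show c ≤ F + c + 1 by omega)
  refine Nat.le_of_mul_le_mul_right ?_ (Nat.card_pos (α := S.E M A))
  rw [Subgroup.index_mul_card, ← hgz]
  exact le_trans (Nat.mul_le_mul_right z hle) (le_of_eq_of_le (hσ _ hE) (hnorm A hA))

end Cfsg.Agent.BrauerFeit
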