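import Cfsg.Agent.Lib.CT.BrauerFeit.Semisimple
import Cfsg.Agent.Lib.CT.BrauerFeit.Counting

/-!
# The characteristic-`p` analogue of Jordan's theorem (Brauer–Feit)

A finite linear group over an algebraically closed field of characteristic `p` whose Sylow
`p`-subgroups have order at most `p ^ m` has an abelian subgroup of bounded index.
-/

namespace Cfsg.Agent.BrauerFeit

open Module

universe u v

variable {K : Type v} [Field K] {V : Type v} [AddCommGroup V] [Module K V]
variable {G : Type u} [Group G]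

/-- Restriction of a representation to an invariant subspace. -/
def resHom (φ : G →* Module.End K V) (W : Submodule K V) (h : ∀ g, ∀ w ∈ W, φ g w ∈ W) :
    G →* Module.End K W where
  toFun g := LinearMap.restrict (φ g) (h g)
  map_one' := LinearMap.ext fun w => Subtype.ext (by simp)
  map_mul' a b := LinearMap.ext fun w => Subtype.ext (by simp)

/-- The representation on the quotient by an invariant subspace. -/
def quotHom (φ : G →* Module.End K V) (W : Submodule K V) (h : ∀ g, ∀ w ∈ W, φ g w ∈ W) :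
    G →* Module.End K (V ⧸ W) where
  toFun g := W.mapQ W (φ g) (fun w hw => h g w hw)
  map_one' := Submodule.linearMap_qext _ (LinearMap.ext fun v => by simp)
  map_mul' a b := Submodule.linearMap_qext _ (LinearMap.ext fun v => by simp)

variable (p : ℕ) [hp : Fact p.Prime] [CharP K p]

/-- The scalar elements of a linear group. -/
def scalarSub (φ : G →* Module.End K V) [Finite G] : Subgroup G where
  carrier := {g | ∃ μ : K, φ g = μ • 1}
  one_mem' := ⟨1, by simp⟩
  mul_mem' := by
    rintro a b ⟨μ, hμ⟩ ⟨ν, hν⟩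
    exact ⟨μ * ν, by rw [map_mul, hμ, hν, smul_mul_smul_comm, one_mul]⟩
  inv_mem' := by
    rintro a ⟨μ, hμ⟩
    refine ⟨μ ^ (orderOf a - 1), ?_⟩
    have : a⁻¹ = a ^ (orderOf a - 1) := by
      refine inv_eq_of_mul_eq_one_right ?_
      rw [← pow_succ', Nat.sub_add_cancel (orderOf_pos a), pow_orderOf_eq_one]
    rw [this, map_pow, hμ, smul_pow, one_pow]

omit hp [CharP K p] in
theorem mem_scalarSub [Finite G] {φ : G →* Module.End K V} {g : G} :
    g ∈ scalarSub φ ↔ ∃ μ : K, φ g = μ • 1 := Iff.rfl

/-- Abelian subgroups of order prime to `p`. -/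
def Torus (A : Subgroup G) : Prop :=
  (∀ x ∈ A, ∀ y ∈ A, Commute x y) ∧ ∀ x ∈ A, ¬ p ∣ orderOf x

theorem card_root_le [Finite G] [IsAlgClosed K] [FiniteDimensional K V] (φ : G →* Module.End K V)
    (hφ : Function.Injective φ) (A : Subgroup G) (hA : Torus p A) (Λ : Finset K)
    (s : Finset G) (hs : ∀ x ∈ s, x ∈ A) (hΛ : ∀ x ∈ s, ∀ μ, (φ x).HasEigenvalue μ → μ ∈ Λ) :
    s.card ≤ max 1 Λ.card ^ finrank K V := by
  classical
  rw [← Finset.card_image_of_injective s hφ]
  refine card_commuting_le Λ V _ ?_ ?_ ?_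
  · simp only [Finset.forall_mem_image]
    exact fun x hx y hy => (hA.1 x (hs x hx) y (hs y hy)).map φ
  · simp only [Finset.forall_mem_image]
    intro x hx
    refine ⟨orderOf x, fun h => hA.2 x (hs x hx) ((CharP.cast_eq_zero_iff K p _).mp h), ?_⟩
    rw [← map_pow, pow_orderOf_eq_one, map_one]
  · simp only [Finset.forall_mem_image]
    exact hΛ

omit hp [CharP K p] in
theorem pow_apply_of_mem_eigenspace {f : Module.End K V} {μ : K} {v : V}
    (h : f v = μ • v) : ∀ e : ℕ, (f ^ e) v = μ ^ e • v
  | 0 => by simp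
  | e + 1 => by
    rw [pow_succ, Module.End.mul_apply, h, map_smul, pow_apply_of_mem_eigenspace h e, smul_smul,
      mul_comm, pow_succ]

theorem torus_rank [Finite G] [IsAlgClosed K] [FiniteDimensional K V] (φ : G →* Module.End K V)
    (hφ : Function.Injective φ) {n : ℕ} (hn : finrank K V ≤ n) (A B : Subgroup G) (e : ℕ)
    (hA : Torus p A) (he : 0 < e) (hp' : ∀ a ∈ A, a ^ e ∈ B) :
    Nat.card A ≤ e ^ n * Nat.card (A ⊓ B : Subgroup G) := by
  classical
  have : Fintype G := Fintype.ofFinite G
  let s := Finset.univ.filter (fun a : G => a ∈ A)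
  have hs : s.card = Nat.card A := by
    rw [Nat.card_eq_fintype_card, ← Fintype.card_subtype]
  let t := Finset.univ.filter (fun a : G => a ∈ A ⊓ B)
  have ht : t.card = Nat.card (A ⊓ B : Subgroup G) := by
    rw [Nat.card_eq_fintype_card, ← Fintype.card_subtype]
  have hker : (s.filter (fun a => a ^ e = 1)).card ≤ e ^ n := by
    let Λ : Finset K := (Polynomial.nthRoots e (1 : K)).toFinset
    refine le_trans (card_root_le p φ hφ A hA Λ _ (fun x hx => (Finset.mem_filter.mp
      (Finset.mem_filter.mp hx).1).2) ?_) ?_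
    · intro x hx μ hμ
      obtain ⟨v, hv⟩ := hμ.exists_hasEigenvector
      have h1 := pow_apply_of_mem_eigenspace hv.apply_eq_smul e
      rw [← map_pow, (Finset.mem_filter.mp hx).2, map_one, Module.End.one_apply] at h1
      rw [Multiset.mem_toFinset, Polynomial.mem_nthRoots he]
      have h2 : (μ ^ e - 1) • v = 0 := by rw [sub_smul, ← h1, one_smul, sub_self]
      rcases smul_eq_zero.mp h2 with h3 | h3
      · exact sub_eq_zero.mp h3
      · exact absurd h3 hv.2
    · refine le_trans (Nat.pow_le_pow_left (max_le he ?_) _) (Nat.pow_le_pow_right he hn)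
      exact le_trans (Multiset.toFinset_card_le _) (Polynomial.card_nthRoots _ _)
  have key : s.card ≤ e ^ n * t.card := by
    refine Finset.card_le_mul_card_image_of_maps_to (f := fun a : G => a ^ e) ?_ (e ^ n) ?_
    · intro a ha
      have ha' := (Finset.mem_filter.mp ha).2
      exact Finset.mem_filter.mpr ⟨Finset.mem_univ _, A.pow_mem ha' e, hp' a ha'⟩
    · intro y _
      rcases (s.filter fun a => a ^ e = y).eq_empty_or_nonempty with h | ⟨a0, ha0⟩
      · simp [h]
      refine le_trans (Finset.card_le_card_of_injOn (fun a => a * a0⁻¹) ?_ ?_) hker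
      · intro a ha
        simp only [Finset.mem_coe, Finset.mem_filter, s, Finset.mem_univ, true_and] at ha ha0 ⊢
        refine ⟨A.mul_mem ha.1 (A.inv_mem ha0.1), ?_⟩
        rw [(hA.1 a ha.1 _ (A.inv_mem ha0.1)).mul_pow, inv_pow, ha.2, ha0.2, mul_inv_cancel]
      · exact fun a _ b _ hab => mul_right_cancel hab
  rwa [hs, ht] at key

omit hp [CharP K p] in
theorem card_le_mul_centralizer [Finite G] {β : Type*} (S : Set G) (x : G) (f : G → β)
    (t : Finset β) (hf : ∀ g ∈ S, f g ∈ t) (hfib : ∀ g ∈ S, ∀ h ∈ S, f g = f h →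
      g * x * g⁻¹ = h * x * h⁻¹) :
    Nat.card S ≤ t.card * Nat.card (Subgroup.centralizer ({x} : Set G)) := by
  classical
  have : Fintype G := Fintype.ofFinite G
  rw [Nat.card_eq_fintype_card, ← Set.toFinset_card, mul_comm]
  refine Finset.card_le_mul_card_image_of_maps_to (f := f) (fun g hg => hf g (Set.mem_toFinset.mp hg))
    _ fun y _ => ?_
  rcases (S.toFinset.filter fun g => f g = y).eq_empty_or_nonempty with h | ⟨g0, hg0⟩
  · simp [h]
  rw [Finset.mem_filter, Set.mem_toFinset] at hg0
  rw [Nat.card_eq_fintype_card, Fintype.card_subtype]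
  refine Finset.card_le_card_of_injOn (fun g => g0⁻¹ * g) ?_ (fun a _ b _ hab => mul_left_cancel hab)
  intro g hg
  rw [Finset.mem_coe, Finset.mem_filter, Set.mem_toFinset] at hg
  refine Finset.mem_coe.mpr (Finset.mem_filter.mpr ⟨Finset.mem_univ _, ?_⟩)
  rw [Subgroup.mem_centralizer_singleton_iff]
  have h1 := hfib g hg.1 g0 hg0.1 (hg.2.trans hg0.2.symm)
  calc g0⁻¹ * g * x = g0⁻¹ * (g * x * g⁻¹) * g := by group
    _ = g0⁻¹ * (g0 * x * g0⁻¹) * g := by rw [h1]
    _ = x * (g0⁻¹ * g) := by group

theorem hasEigenvalue_conj (φ : G →* Module.End K V) (g y : G) {μ : K}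
    (h : (φ (g * y * g⁻¹)).HasEigenvalue μ) : (φ y).HasEigenvalue μ := by
  obtain ⟨v, hv⟩ := h.exists_hasEigenvector
  refine Module.End.hasEigenvalue_of_hasEigenvector (x := φ g⁻¹ v) ⟨?_, fun h0 => hv.2 ?_⟩
  · rw [Module.End.mem_eigenspace_iff, ← map_smul, ← hv.apply_eq_smul, ← Module.End.mul_apply,
      ← Module.End.mul_apply, ← map_mul, ← map_mul]
    congr 2
    group
  · have : (φ g * φ g⁻¹) v = v := by
      rw [← map_mul, mul_inv_cancel, map_one, Module.End.one_apply]
    rw [← this, Module.End.mul_apply, h0, map_zero]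

omit hp [CharP K p] in
theorem exists_eigen_finset [FiniteDimensional K V] (f : Module.End K V) :
    ∃ Λ : Finset K, Λ.card ≤ finrank K V ∧ ∀ μ, f.HasEigenvalue μ → μ ∈ Λ := by
  classical
  refine ⟨(LinearMap.charpoly f).roots.toFinset, ?_, fun μ hμ => ?_⟩
  · refine le_trans (Multiset.toFinset_card_le _) ?_
    rw [← LinearMap.charpoly_natDegree f]
    exact Polynomial.card_roots' _
  · rw [Multiset.mem_toFinset, Polynomial.mem_roots (LinearMap.charpoly_monic f).ne_zero]
    exact (Module.End.hasEigenvalue_iff_isRoot_charpoly f μ).mp hμ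

/-- The faithful monoid hom on the quotient by the kernel. -/
def liftKer {M : Type*} [Monoid M] (f : G →* M) : G ⧸ f.ker →* M :=
  QuotientGroup.lift f.ker f le_rfl

omit hp [CharP K p] in
theorem liftKer_injective {M : Type*} [Monoid M] (f : G →* M) :
    Function.Injective (liftKer f) := by
  intro a b
  induction a using QuotientGroup.induction_on with
  | H a =>
    induction b using QuotientGroup.induction_on with
    | H b =>
      intro h
      change f a = f b at h
      rw [QuotientGroup.eq, MonoidHom.mem_ker, map_mul, ← h, ← map_mul, inv_mul_cancel, map_one]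

theorem exists_torus_reducible [Finite G] (φ : G →* Module.End K V) (hφ : Function.Injective φ)
    (W : Submodule K V) (hinv : ∀ g, ∀ w ∈ W, φ g w ∈ W) {b m : ℕ}
    (hm : (Nat.card G).factorization p ≤ m)
    (h1 : ∀ (H : Type u) [Group H] [Finite H] (ψ : H →* Module.End K W), Function.Injective ψ →
      (Nat.card H).factorization p ≤ m → ∃ A : Subgroup H, Torus p A ∧ A.index ≤ b)
    (h2 : ∀ (H : Type u) [Group H] [Finite H] (ψ : H →* Module.End K (V ⧸ W)),
      Function.Injective ψ →
      (Nat.card H).factorization p ≤ m → ∃ A : Subgroup H, Torus p A ∧ A.index ≤ b) :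
    ∃ A : Subgroup G, Torus p A ∧ A.index ≤ b * b * p ^ m := by
  classical
  obtain ⟨ρ1, hρ1⟩ : ∃ r, r = resHom φ W hinv := ⟨_, rfl⟩
  obtain ⟨ρ2, hρ2⟩ : ∃ r, r = quotHom φ W hinv := ⟨_, rfl⟩
  have hfac : ∀ N : Subgroup G, N.Normal → (Nat.card (G ⧸ N)).factorization p ≤ m := fun N _ =>
    le_trans ((Nat.factorization_le_iff_dvd (Nat.card_pos).ne' (Nat.card_pos).ne').mpr
      (Subgroup.card_quotient_dvd_card N) p) hm
  obtain ⟨A1, hA1, hA1i⟩ := h1 (G ⧸ ρ1.ker) (liftKer ρ1)
    (liftKer_injective ρ1) (hfac _ inferInstance)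
  obtain ⟨A2, hA2, hA2i⟩ := h2 (G ⧸ ρ2.ker) (liftKer ρ2)
    (liftKer_injective ρ2) (hfac _ inferInstance)
  set L := A1.comap (QuotientGroup.mk' ρ1.ker) ⊓ A2.comap (QuotientGroup.mk' ρ2.ker) with hL
  have hLi : L.index ≤ b * b := by
    refine le_trans Subgroup.index_inf_le (Nat.mul_le_mul ?_ ?_)
    · rwa [Subgroup.index_comap_of_surjective _ (QuotientGroup.mk'_surjective _)]
    · rwa [Subgroup.index_comap_of_surjective _ (QuotientGroup.mk'_surjective _)]
  set N : Subgroup L := (ρ1.ker ⊓ ρ2.ker).subgroupOf L with hN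
  have hNp : IsPGroup p N := by
    rintro ⟨⟨u, hu⟩, huN⟩
    refine ⟨1, Subtype.ext (Subtype.ext (hφ ?_))⟩
    simp only [pow_one, SubmonoidClass.coe_pow, OneMemClass.coe_one, map_pow, map_one]
    rw [hN, Subgroup.mem_subgroupOf] at huN
    have hs : (φ u - 1) * (φ u - 1) = 0 := by
      refine LinearMap.ext fun v => ?_
      have hv : (φ u - 1) v ∈ W := by
        have := LinearMap.congr_fun (MonoidHom.mem_ker.mp huN.2) (Submodule.Quotient.mk v)
        simpa [hρ2, quotHom, Submodule.Quotient.eq] using this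
      have hw : ∀ w ∈ W, (φ u - 1) w = 0 := fun w hw => by
        have := congrArg Subtype.val (LinearMap.congr_fun (MonoidHom.mem_ker.mp huN.1) ⟨w, hw⟩)
        simpa [hρ1, resHom, sub_eq_zero] using this
      exact hw _ hv
    have h := one_add_pow_of_sq_zero _ hs p
    rw [add_sub_cancel] at h
    rw [h, ← map_natCast (algebraMap K (Module.End K V)), CharP.cast_eq_zero, map_zero, zero_mul,
      add_zero]
  have hNmem : ∀ l : L, QuotientGroup.mk' ρ1.ker (l : G) = 1 →
      QuotientGroup.mk' ρ2.ker (l : G) = 1 → l ∈ N := fun l h1' h2' => by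
    rw [hN, Subgroup.mem_subgroupOf]
    exact ⟨(QuotientGroup.eq_one_iff _).mp h1', (QuotientGroup.eq_one_iff _).mp h2'⟩
  have hpdvd : ∀ {H : Type u} [Group H] {B : Subgroup H}, Torus p B → ∀ a ∈ B,
      ∀ j : ℕ, a ^ p ^ j = 1 → a = 1 := by
    intro H _ B hB a ha j hj
    rw [← orderOf_eq_one_iff]
    obtain ⟨i, -, hi⟩ := (Nat.dvd_prime_pow hp.out).mp (orderOf_dvd_of_pow_eq_one hj)
    rcases Nat.eq_zero_or_pos i with rfl | h
    · simpa using hi
    · exact absurd (hi ▸ dvd_pow_self p h.ne') (hB.2 a ha)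
  obtain ⟨P⟩ : Nonempty (Sylow p L) := inferInstance
  have hPN : (P : Subgroup L) ≤ N := fun l hl => by
    obtain ⟨j, hj⟩ := P.2 ⟨l, hl⟩
    have hj' : (l : G) ^ p ^ j = 1 := congrArg (fun x : ↥(P : Subgroup L) => ((x : L) : G)) hj
    exact hNmem l
      (hpdvd hA1 _ (Subgroup.mem_inf.mp l.2).1 j (by rw [← map_pow, hj', map_one]))
      (hpdvd hA2 _ (Subgroup.mem_inf.mp l.2).2 j (by rw [← map_pow, hj', map_one]))
  have hPeq : N = P := P.3 hNp hPN
  have hNidx : ¬ p ∣ N.index := hPeq ▸ P.not_dvd_index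
  have hNcard : Nat.card N ≤ p ^ m := by
    obtain ⟨j, hj⟩ := hNp.exists_card_eq
    rw [hj]
    refine Nat.pow_le_pow_right hp.out.pos (le_trans ?_ hm)
    rw [← hp.out.pow_dvd_iff_le_factorization (Nat.card_pos).ne', ← hj]
    exact (Subgroup.card_subgroup_dvd_card N).trans (Subgroup.card_subgroup_dvd_card L)
  have : N.Normal := by rw [hN]; infer_instance
  obtain ⟨C, hC⟩ := Subgroup.exists_right_complement'_of_coprime (N := N) (by
    obtain ⟨j, hj⟩ := hNp.exists_card_eq
    rw [hj]
    exact Nat.Coprime.pow_left _ (hp.out.coprime_iff_not_dvd.mpr hNidx))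
  have hCN : ∀ c ∈ C, c ∈ N → c = 1 := fun c hc hcN =>
    Subgroup.mem_bot.mp (hC.disjoint.le_bot ⟨hcN, hc⟩)
  refine ⟨C.map L.subtype, ⟨?_, ?_⟩, ?_⟩
  · rintro _ ⟨x, hx, rfl⟩ _ ⟨y, hy, rfl⟩
    have hz : x * y * (y * x)⁻¹ = 1 := by
      refine hCN _ (mul_mem (mul_mem hx hy) (inv_mem (mul_mem hy hx))) (hNmem _ ?_ ?_)
      · simp only [Subgroup.coe_mul, InvMemClass.coe_inv, map_mul, map_inv]
        rw [(hA1.1 _ (Subgroup.mem_inf.mp x.2).1 _ (Subgroup.mem_inf.mp y.2).1).eq, mul_inv_cancel]
      · simp only [Subgroup.coe_mul, InvMemClass.coe_inv, map_mul, map_inv]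
        rw [(hA2.1 _ (Subgroup.mem_inf.mp x.2).2 _ (Subgroup.mem_inf.mp y.2).2).eq, mul_inv_cancel]
    exact congrArg L.subtype (mul_inv_eq_one.mp hz)
  · rintro _ ⟨x, hx, rfl⟩ hdvd
    rw [orderOf_injective _ L.subtype_injective] at hdvd
    obtain ⟨d, hd⟩ := hdvd
    have h2' : x ^ d = 1 := by
      refine hCN _ (pow_mem hx d) (hNmem _ ?_ ?_)
      · refine hpdvd hA1 _ (Subgroup.mem_inf.mp (x ^ d).2).1 1 ?_
        rw [pow_one, ← map_pow, SubmonoidClass.coe_pow, ← pow_mul, mul_comm, ← hd,
          ← SubmonoidClass.coe_pow, pow_orderOf_eq_one, OneMemClass.coe_one, map_one]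
      · refine hpdvd hA2 _ (Subgroup.mem_inf.mp (x ^ d).2).2 1 ?_
        rw [pow_one, ← map_pow, SubmonoidClass.coe_pow, ← pow_mul, mul_comm, ← hd,
          ← SubmonoidClass.coe_pow, pow_orderOf_eq_one, OneMemClass.coe_one, map_one]
    have hle := Nat.le_of_dvd (Nat.pos_of_ne_zero fun h0 => by
      rw [h0, mul_zero] at hd; exact (orderOf_pos x).ne' hd) (orderOf_dvd_of_pow_eq_one h2')
    rw [hd] at hle
    have hdpos : 0 < d := Nat.pos_of_ne_zero fun h0 => by
      rw [h0, mul_zero] at hd; exact (orderOf_pos x).ne' hd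
    nlinarith [hp.out.two_le]
  · rw [Subgroup.index_map_subtype]
    refine le_trans (Nat.mul_le_mul ?_ hLi) (le_of_eq (mul_comm _ _))
    exact (hC.index_eq_card ▸ hNcard : C.index ≤ p ^ m)

omit hp [CharP K p] in
theorem torus_mono {A B : Subgroup G} (hA : Torus p A) (h : B ≤ A) : Torus p B :=
  ⟨fun x hx y hy => hA.1 x (h hx) y (h hy), fun x hx => hA.2 x (h hx)⟩

omit hp [CharP K p] in
theorem torus_map {H : Type*} [Group H] {A : Subgroup H} (hA : Torus p A) (f : H →* G)
    (hf : Function.Injective f) : Torus p (A.map f) := by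
  constructor
  · rintro _ ⟨a, ha, rfl⟩ _ ⟨b, hb, rfl⟩; exact (hA.1 a ha b hb).map f
  · rintro _ ⟨a, ha, rfl⟩; rw [orderOf_injective f hf]; exact hA.2 a ha

theorem torus_sup {A Z : Subgroup G} (hA : Torus p A) (hZ : Torus p Z)
    (hc : Z ≤ Subgroup.center G) : Torus p (A ⊔ Z) := by
  have : Z.Normal := ⟨fun z hz g => by
    rw [Subgroup.mem_center_iff.mp (hc hz) g, mul_inv_cancel_right]; exact hz⟩
  have hmem : ∀ x ∈ A ⊔ Z, ∃ a ∈ A, ∃ z ∈ Z, a * z = x := fun x hx =>
    Subgroup.mem_sup_of_normal_right.mp hx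
  constructor
  · intro x hx y hy
    obtain ⟨a, ha, z, hz, rfl⟩ := hmem x hx
    obtain ⟨a', ha', z', hz', rfl⟩ := hmem y hy
    have c1 : ∀ g : G, Commute g z := fun g => Subgroup.mem_center_iff.mp (hc hz) g
    have c2 : ∀ g : G, Commute g z' := fun g => Subgroup.mem_center_iff.mp (hc hz') g
    exact ((hA.1 a ha a' ha').mul_right (c2 a)).mul_left ((c1 _).symm)
  · intro x hx hdvd
    obtain ⟨a, ha, z, hz, rfl⟩ := hmem x hx
    have hc' : Commute a z := Subgroup.mem_center_iff.mp (hc hz) a
    rcases (Nat.Prime.dvd_mul hp.out).mp (hdvd.trans hc'.orderOf_mul_dvd_mul_orderOf) with h | h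
    · exact hA.2 a ha h
    · exact hZ.2 z hz h

theorem exists_torus_bound (p m : ℕ) [hp : Fact p.Prime] : ∀ n : ℕ, ∃ b : ℕ,
    ∀ (K : Type v) [Field K] [IsAlgClosed K] [CharP K p] (G : Type u) [Group G] [Finite G]
      (V : Type v) [AddCommGroup V] [Module K V] [FiniteDimensional K V],
      finrank K V ≤ n → ∀ φ : G →* Module.End K V, Function.Injective φ →
      (Nat.card G).factorization p ≤ m → ∃ A : Subgroup G, Torus p A ∧ A.index ≤ b := by
  intro n
  induction n with
  | zero =>
    refine ⟨1, fun K _ _ _ G _ _ V _ _ _ hn φ hφ _ => ⟨⊤, ?_, by simp⟩⟩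
    have : Subsingleton V := Module.finrank_zero_iff.mp (Nat.le_zero.mp hn)
    have : Subsingleton G := ⟨fun a b => hφ (LinearMap.ext fun v => Subsingleton.elim _ _)⟩
    exact ⟨fun x _ y _ => Subsingleton.elim _ _,
      fun x _ h => hp.out.not_dvd_one (by rwa [Subsingleton.elim x 1, orderOf_one] at h)⟩
  | succ n ih =>
    obtain ⟨b, hb⟩ := ih
    set br := b * b * p ^ m
    obtain ⟨B, hB⟩ := bounded_index br (n + 1) ((n + 1) ^ (n + 1)) (n + 1)
    refine ⟨max br B, fun K _ _ _ G _ _ V _ _ _ hn φ hφ hm => ?_⟩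
    -- the bound for a group stabilizing a proper subspace
    have hred : ∀ (H : Type u) [Group H] [Finite H] (ψ : H →* Module.End K V),
        Function.Injective ψ → (Nat.card H).factorization p ≤ m → ∀ W : Submodule K V,
        W ≠ ⊥ → W ≠ ⊤ → (∀ g, ∀ w ∈ W, ψ g w ∈ W) →
        ∃ A : Subgroup H, Torus p A ∧ A.index ≤ br := by
      intro H _ _ ψ hψ hmH W hW0 hW1 hinv
      have e1 : finrank K W ≤ n := by have := Submodule.finrank_lt hW1; omega
      have e2 : finrank K (V ⧸ W) ≤ n := by
        have := W.finrank_quotient_add_finrank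
        have : 0 < finrank K W := Submodule.one_le_finrank_iff.mpr hW0
        omega
      exact exists_torus_reducible p ψ hψ W hinv hmH
        (fun H' _ _ ψ' hψ' hm' => hb K H' W e1 ψ' hψ' hm')
        (fun H' _ _ ψ' hψ' hm' => hb K H' (V ⧸ W) e2 ψ' hψ' hm')
    rcases subsingleton_or_nontrivial V with hV | hV
    · obtain ⟨A, hA, hAi⟩ := hB G
        { Z := ⊤
          T := fun A => A = ⊤
          Z_center := fun g _ => Subgroup.mem_center_iff.mpr fun h =>
            hφ (LinearMap.ext fun v => Subsingleton.elim _ _)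
          T_Z := rfl
          T_le := fun A h => h.ge
          T_comm := fun A _ x _ y _ => hφ (LinearMap.ext fun v => Subsingleton.elim _ _)
          T_anti := fun A B _ _ h => top_le_iff.mp h
          T_conj := fun A g h => by rw [h]; exact Subgroup.map_top_of_surjective _ (MulEquiv.surjective _)
          cent := fun x hx => absurd (Subgroup.mem_top x) hx
          rank := fun A B e h he hBZ _ => by
            rw [h, top_le_iff.mp hBZ, inf_idem]
            exact Nat.le_mul_of_pos_left _ (Nat.pow_pos he)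
          orb := fun A y S _ _ _ => by
            refine le_trans (Subgroup.card_le_card_group S) (le_trans ?_
              (Nat.le_mul_of_pos_left _ (Nat.pow_pos (Nat.succ_pos n))))
            rw [← Subgroup.card_top (G := G)]
            exact Subgroup.card_le_of_le fun g _ => Subgroup.mem_centralizer_singleton_iff.mpr
              (hφ (LinearMap.ext fun v => Subsingleton.elim _ _))
          twist := fun x hx => absurd (Subgroup.mem_top x) hx }
      refine ⟨⊤, ⟨fun x _ y _ => hφ (LinearMap.ext fun v => Subsingleton.elim _ _), ?_⟩,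
        (hA ▸ hAi).trans (le_max_right _ _)⟩
      intro x _ h
      have hx1 : x = 1 := hφ (LinearMap.ext fun v => Subsingleton.elim _ _)
      rw [hx1, orderOf_one] at h
      exact hp.out.not_dvd_one h
    by_cases hW : ∃ W : Submodule K V, W ≠ ⊥ ∧ W ≠ ⊤ ∧ ∀ g, ∀ w ∈ W, φ g w ∈ W
    · obtain ⟨W, h0, h1, h2⟩ := hW
      obtain ⟨A, hA, hAi⟩ := hred G φ hφ hm W h0 h1 h2
      exact ⟨A, hA, hAi.trans (le_max_left _ _)⟩
    set Z := scalarSub φ with hZdef
    obtain ⟨v0, hv0⟩ := exists_ne (0 : V)
    have hZc : Z ≤ Subgroup.center G := by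
      rintro g ⟨μ, hμ⟩
      refine Subgroup.mem_center_iff.mpr fun h => hφ ?_
      rw [map_mul, map_mul, hμ, mul_smul_comm, smul_mul_assoc, mul_one, one_mul]
    have hZp : Torus p Z := by
      refine ⟨fun x hx y _ => (Subgroup.mem_center_iff.mp (hZc hx) y).symm, fun x hx hdvd => ?_⟩
      obtain ⟨μ, hμ⟩ := hx
      obtain ⟨d, hd⟩ := hdvd
      have h1 : μ ^ orderOf x = 1 := by
        have := LinearMap.congr_fun (congrArg φ (pow_orderOf_eq_one x)) v0
        rw [map_pow, hμ, smul_pow, one_pow, map_one, LinearMap.smul_apply,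
          Module.End.one_apply] at this
        exact smul_left_injective K hv0 (this.trans (one_smul K v0).symm)
      have h2 : μ ^ d = 1 := by
        rw [hd, mul_comm, pow_mul] at h1
        exact frobenius_inj K p (by rw [frobenius_def, frobenius_def, h1, one_pow])
      have h3 : x ^ d = 1 := hφ (by rw [map_pow, hμ, smul_pow, h2, one_pow, one_smul, map_one])
      have hdpos : 0 < d := Nat.pos_of_ne_zero fun h0 => by
        rw [h0, mul_zero] at hd; exact (orderOf_pos x).ne' hd
      have := Nat.le_of_dvd hdpos (orderOf_dvd_of_pow_eq_one h3)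
      rw [hd] at this
      nlinarith [hp.out.two_le]
    have hcent : ∀ x, x ∉ Z → ∃ A, (Z ≤ A ∧ Torus p A) ∧ A ≤ Subgroup.centralizer {x} ∧
        Nat.card (Subgroup.centralizer ({x} : Set G)) ≤ br * Nat.card A := by
      intro x hx
      obtain ⟨μ, hμ⟩ := Module.End.exists_eigenvalue (φ x)
      have htop : (φ x).eigenspace μ ≠ ⊤ := by
        intro h
        refine hx ⟨μ, LinearMap.ext fun v => ?_⟩
        have : v ∈ (φ x).eigenspace μ := h ▸ Submodule.mem_top
        rw [Module.End.mem_eigenspace_iff] at this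
        simp [this]
      set C := Subgroup.centralizer ({x} : Set G) with hC
      obtain ⟨A, hA, hAi⟩ := hred C (φ.comp C.subtype) (hφ.comp C.subtype_injective)
        (le_trans ((Nat.factorization_le_iff_dvd (Nat.card_pos).ne' (Nat.card_pos).ne').mpr
          (Subgroup.card_subgroup_dvd_card C) p) hm) _ hμ htop (by
        intro c w hw
        rw [Module.End.mem_eigenspace_iff] at hw ⊢
        show φ x (φ c w) = μ • φ c w
        rw [← Module.End.mul_apply, ← map_mul,
          ← Subgroup.mem_centralizer_singleton_iff.mp c.2, map_mul, Module.End.mul_apply, hw,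
          map_smul])
      refine ⟨A.map C.subtype ⊔ Z, ⟨le_sup_right,
        torus_sup p (torus_map p hA _ C.subtype_injective) hZp hZc⟩,
        sup_le ?_ (hZc.trans (Subgroup.center_le_centralizer _)), ?_⟩
      · rintro _ ⟨a, _, rfl⟩; exact a.2
      · calc Nat.card C = A.index * Nat.card A := (A.index_mul_card).symm
          _ ≤ br * Nat.card (A.map C.subtype ⊔ Z : Subgroup G) := by
              refine Nat.mul_le_mul hAi ?_
              rw [Nat.card_congr (A.equivMapOfInjective _ C.subtype_injective).toEquiv]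
              exact Subgroup.card_le_of_le le_sup_left
    obtain ⟨A, hA, hAi⟩ := hB G
      { Z := Z
        T := fun A => Z ≤ A ∧ Torus p A
        Z_center := hZc
        T_Z := ⟨le_rfl, hZp⟩
        T_le := fun A h => h.1
        T_comm := fun A h => h.2.1
        T_anti := fun A B hA hle hZB => ⟨hZB, torus_mono p hA.2 hle⟩
        T_conj := fun A g hA => ⟨fun z hz => mem_map_conj.mpr (by
            rw [mul_assoc, ← Subgroup.mem_center_iff.mp (hZc hz) g, inv_mul_cancel_left]
            exact hA.1 hz), torus_map p hA.2 _ (MulEquiv.injective _)⟩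
        cent := hcent
        rank := fun A B e hA he _ hp' => torus_rank p φ hφ hn A B e hA.2 he hp'
        orb := fun A y S hA hy hS => by
          classical
          have : Fintype G := Fintype.ofFinite G
          obtain ⟨Λ, hΛc, hΛ⟩ := exists_eigen_finset (φ y)
          refine le_trans (card_le_mul_centralizer (S : Set G) y (fun g => g * y * g⁻¹)
            ((S : Set G).toFinset.image fun g => g * y * g⁻¹)
            (fun g hg => Finset.mem_image_of_mem _ (Set.mem_toFinset.mpr hg))
            (fun g _ h _ e => e)) (Nat.mul_le_mul_right _ ?_)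
          refine le_trans (card_root_le p φ hφ A hA.2 Λ _ ?_ ?_) ?_
          · simp only [Finset.forall_mem_image, Set.mem_toFinset]
            exact hS
          · simp only [Finset.forall_mem_image]
            exact fun g _ μ hμ => hΛ μ (hasEigenvalue_conj φ g y hμ)
          · exact le_trans (Nat.pow_le_pow_left (max_le (Nat.succ_pos n) (hΛc.trans hn)) _)
              (Nat.pow_le_pow_right (Nat.succ_pos n) hn)
        twist := fun x hx => by
          classical
          obtain ⟨Λ, hΛc, hΛ⟩ := exists_eigen_finset (φ x)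
          obtain ⟨l, hl⟩ := Module.End.exists_eigenvalue (φ x)
          obtain ⟨v, hv⟩ := hl.exists_hasEigenvector
          refine le_trans (card_le_mul_centralizer {g : G | g * x * g⁻¹ * x⁻¹ ∈ Z} x
            (fun g => if h : g * x * g⁻¹ * x⁻¹ ∈ Z then h.choose * l else 0) Λ ?_ ?_)
            (Nat.mul_le_mul_right _ (hΛc.trans hn))
          · intro g hg
            simp only [Set.mem_ofPred_eq] at hg
            rw [dif_pos hg]
            refine hΛ _ (hasEigenvalue_conj φ g x
              (Module.End.hasEigenvalue_of_hasEigenvector (x := v) ⟨?_, hv.2⟩))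
            have e1 : φ (g * x * g⁻¹) = φ (g * x * g⁻¹ * x⁻¹) * φ x := by
              rw [← map_mul, inv_mul_cancel_right]
            rw [Module.End.mem_eigenspace_iff, e1, Module.End.mul_apply, hv.apply_eq_smul, map_smul]
            refine Eq.trans (congrArg (l • ·) (LinearMap.congr_fun hg.choose_spec v)) ?_
            rw [LinearMap.smul_apply, Module.End.one_apply, smul_smul, mul_comm]
          · intro g hg h hh e
            simp only [Set.mem_ofPred_eq] at hg hh
            rw [dif_pos hg, dif_pos hh] at e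
            have hl0 : l ≠ 0 := by
              intro h0
              refine hv.2 ?_
              have : (φ x⁻¹ * φ x) v = v := by
                rw [← map_mul, inv_mul_cancel, map_one, Module.End.one_apply]
              rw [← this, Module.End.mul_apply, hv.apply_eq_smul, h0, zero_smul, map_zero]
            have e' : g * x * g⁻¹ * x⁻¹ = h * x * h⁻¹ * x⁻¹ := hφ (by
              rw [hg.choose_spec, hh.choose_spec, mul_right_cancel₀ hl0 e])
            exact mul_right_cancel e' }
    exact ⟨A, hA.2, hAi.trans (le_max_right _ _)⟩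

end Cfsg.Agent.BrauerFeit
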