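import Mathlib

/-!
# Commuting semisimple endomorphisms with prescribed eigenvalues (for Brauer–Feit)
-/

namespace Cfsg.Agent.BrauerFeit

open Module

theorem one_add_pow_of_sq_zero {R : Type*} [Ring R] (N : R) (h : N * N = 0) :
    ∀ j : ℕ, (1 + N) ^ j = 1 + (j : R) * N
  | 0 => by simp
  | j + 1 => by
    rw [pow_succ, one_add_pow_of_sq_zero N h j, mul_add, mul_one, add_mul, one_mul, mul_assoc, h,
      mul_zero, add_zero, Nat.cast_add, Nat.cast_one, add_mul, one_mul]
    abel

theorem eq_of_sq_sub_eq_zero {K R : Type*} [Field K] [Ring R] [Algebra K R] {x y : R}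
    (hxy : Commute x y) {k l : ℕ} (hk : (k : K) ≠ 0) (hl : (l : K) ≠ 0) (hxk : x ^ k = 1)
    (hyl : y ^ l = 1) (h : (x - y) * (x - y) = 0) : x = y := by
  obtain ⟨l, rfl⟩ : ∃ l', l = l' + 1 := by
    refine ⟨l - 1, ?_⟩
    rcases Nat.eq_zero_or_pos l with rfl | h'
    · simp at hl
    · omega
  have hc : Commute (x - y) (y ^ l) := (hxy.sub_left (Commute.refl y)).pow_right _
  have hz : x * y ^ l = 1 + (x - y) * y ^ l := by
    rw [sub_mul, ← pow_succ', hyl, add_sub_cancel]
  have hN : ((x - y) * y ^ l) * ((x - y) * y ^ l) = 0 := by
    rw [mul_assoc, ← mul_assoc (y ^ l), ← hc.eq, mul_assoc, ← mul_assoc (x - y), h, zero_mul]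
  have h1 : (x * y ^ l) ^ (k * (l + 1)) = 1 := by
    rw [(hxy.pow_right l).mul_pow, pow_mul x, hxk, one_pow, ← pow_mul, one_mul,
      show l * (k * (l + 1)) = (l + 1) * (l * k) by ring, pow_mul y, hyl, one_pow]
  rw [hz, one_add_pow_of_sq_zero _ hN, add_eq_left] at h1
  have h2 : ((k * (l + 1) : ℕ) : K) • ((x - y) * y ^ l) = 0 := by
    rw [Algebra.smul_def, map_natCast]; exact h1
  have h3 : (x - y) * y ^ l = 0 := by
    rcases smul_eq_zero.mp h2 with h3 | h3
    · rw [Nat.cast_mul] at h3
      rcases mul_eq_zero.mp h3 with h4 | h4
      · exact absurd h4 hk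
      · exact absurd h4 hl
    · exact h3
  have h4 : (x - y) * y ^ (l + 1) = 0 := by rw [pow_succ, ← mul_assoc, h3, zero_mul]
  rwa [hyl, mul_one, sub_eq_zero] at h4

section

variable {K : Type*} [Field K] [IsAlgClosed K]

/-- Pairwise commuting endomorphisms of finite order prime to the characteristic with all
eigenvalues in `Λ`: at most `#Λ ^ dim` of them. -/
theorem card_commuting_le (Λ : Finset K) :
    ∀ (V : Type*) [AddCommGroup V] [Module K V] [FiniteDimensional K V]
      (S : Finset (Module.End K V)), (∀ x ∈ S, ∀ y ∈ S, Commute x y) →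
      (∀ x ∈ S, ∃ k : ℕ, (k : K) ≠ 0 ∧ x ^ k = 1) →
      (∀ x ∈ S, ∀ μ : K, x.HasEigenvalue μ → μ ∈ Λ) →
      S.card ≤ max 1 Λ.card ^ finrank K V := by
  intro V _ _ _ S
  induction hd : finrank K V using Nat.strong_induction_on generalizing V with
  | _ d ih =>
    intro hcomm hss hΛ
    classical
    subst hd
    rcases subsingleton_or_nontrivial V with hV | hV
    · refine le_trans (Finset.card_le_one.2 fun a _ b _ => LinearMap.ext fun v =>
        Subsingleton.elim _ _) (Nat.one_le_pow _ _ (by omega))
    by_cases hsc : ∀ x ∈ S, ∃ μ : K, x = μ • (1 : Module.End K V)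
    · choose μ hμ using hsc
      obtain ⟨v, hv⟩ := exists_ne (0 : V)
      have hev : ∀ x (hx : x ∈ S), μ x hx ∈ Λ := by
        intro x hx
        refine hΛ x hx _ (Module.End.hasEigenvalue_of_hasEigenvector (x := v) ⟨?_, hv⟩)
        rw [Module.End.mem_eigenspace_iff]
        conv_lhs => rw [hμ x hx]
        simp
      have h : S.card ≤ Λ.card := by
        rw [← Finset.card_attach]
        refine Finset.card_le_card_of_injOn (fun x => μ x.1 x.2) (fun x _ => hev _ _) ?_
        intro x _ y _ hxy
        apply Subtype.ext
        rw [hμ x.1 x.2, hμ y.1 y.2]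
        simp only at hxy
        rw [hxy]
      calc S.card ≤ max 1 Λ.card := le_trans h (le_max_right _ _)
        _ ≤ max 1 Λ.card ^ finrank K V := Nat.le_self_pow Module.finrank_pos.ne' _
    · push Not at hsc
      obtain ⟨x0, hx0, hns⟩ := hsc
      obtain ⟨μ, hμ⟩ := Module.End.exists_eigenvalue x0
      set W := x0.eigenspace μ with hW
      have hWbot : W ≠ ⊥ := hμ
      have hWtop : W ≠ ⊤ := by
        intro h
        refine hns μ (LinearMap.ext fun v => ?_)
        have : v ∈ W := h ▸ Submodule.mem_top
        rw [hW, Module.End.mem_eigenspace_iff] at this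
        simp [this]
      have hinv : ∀ x ∈ S, ∀ w ∈ W, x w ∈ W := by
        intro x hx w hw
        rw [hW, Module.End.mem_eigenspace_iff] at hw ⊢
        have := LinearMap.congr_fun (hcomm x0 hx0 x hx).eq w
        simp only [Module.End.mul_apply] at this
        rw [this, hw, map_smul]
      have hle : ∀ x ∈ S, W ≤ W.comap x := fun x hx w hw => hinv x hx w hw
      let r1 : Module.End K V → Module.End K W := fun x =>
        if h : ∀ w ∈ W, x w ∈ W then LinearMap.restrict x h else 0
      let r2 : Module.End K V → Module.End K (V ⧸ W) := fun x =>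
        if h : W ≤ W.comap x then W.mapQ W x h else 0
      have e1 : ∀ x (hx : x ∈ S), r1 x = LinearMap.restrict x (hinv x hx) := fun x hx =>
        dif_pos (hinv x hx)
      have e2 : ∀ x (hx : x ∈ S), r2 x = W.mapQ W x (hle x hx) := fun x hx => dif_pos (hle x hx)
      have h1 : (S.image r1).card ≤ max 1 Λ.card ^ finrank K W := by
        refine ih _ (Submodule.finrank_lt hWtop) (↥W) _ rfl ?_ ?_ ?_
        · simp only [Finset.forall_mem_image]
          intro x hx y hy
          rw [e1 x hx, e1 y hy]
          refine LinearMap.ext fun w => Subtype.ext ?_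
          simpa using LinearMap.congr_fun (hcomm x hx y hy).eq (w : V)
        · simp only [Finset.forall_mem_image]
          intro x hx
          obtain ⟨k, hk, hxk⟩ := hss x hx
          refine ⟨k, hk, ?_⟩
          rw [e1 x hx, Module.End.pow_restrict]
          refine LinearMap.ext fun w => Subtype.ext ?_
          simp [hxk]
        · simp only [Finset.forall_mem_image]
          intro x hx ν hν
          obtain ⟨w, hw⟩ := hν.exists_hasEigenvector
          refine hΛ x hx ν (Module.End.hasEigenvalue_of_hasEigenvector (x := (w : V))
            ⟨?_, fun h => hw.2 (Subtype.ext h)⟩)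
          have := hw.apply_eq_smul
          rw [e1 x hx] at this
          rw [Module.End.mem_eigenspace_iff]
          simpa using congrArg Subtype.val this
      have h2 : (S.image r2).card ≤ max 1 Λ.card ^ finrank K (V ⧸ W) := by
        have hlt : finrank K (V ⧸ W) < finrank K V := by
          have := W.finrank_quotient_add_finrank
          have : 0 < finrank K W := Submodule.one_le_finrank_iff.mpr hWbot
          omega
        refine ih _ hlt (V ⧸ W) _ rfl ?_ ?_ ?_
        · simp only [Finset.forall_mem_image]
          intro x hx y hy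
          rw [e2 x hx, e2 y hy]
          refine Submodule.linearMap_qext _ (LinearMap.ext fun v => ?_)
          simpa using congrArg (Submodule.Quotient.mk (p := W))
            (LinearMap.congr_fun (hcomm x hx y hy).eq v)
        · simp only [Finset.forall_mem_image]
          intro x hx
          obtain ⟨k, hk, hxk⟩ := hss x hx
          refine ⟨k, hk, ?_⟩
          rw [e2 x hx, ← Submodule.mapQ_pow]
          refine Submodule.linearMap_qext _ (LinearMap.ext fun v => ?_)
          simp [hxk]
        · simp only [Finset.forall_mem_image]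
          intro x hx ν hν
          refine hΛ x hx ν ?_
          by_contra hno
          have hinj : Function.Injective (x - ν • (1 : Module.End K V)) := by
            rw [← LinearMap.ker_eq_bot]
            rw [Module.End.hasEigenvalue_iff, not_not] at hno
            rw [← hno, Module.End.eigenspace_def]
          obtain ⟨v, hv⟩ := hν.exists_hasEigenvector
          rw [e2 x hx] at hv
          have hsurjW : Function.Surjective
              (W.mapQ W x (hle x hx) - ν • (1 : Module.End K (V ⧸ W))) := by
            intro q
            obtain ⟨a, rfl⟩ := Submodule.Quotient.mk_surjective W q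
            obtain ⟨b, hb⟩ := (LinearMap.injective_iff_surjective.mp hinj) a
            exact ⟨Submodule.Quotient.mk b, by rw [← hb]; simp⟩
          have hinjW := LinearMap.injective_iff_surjective.mpr hsurjW
          refine hv.2 (hinjW ?_)
          rw [map_zero, LinearMap.sub_apply, hv.apply_eq_smul]
          simp
      have hinjS : Set.InjOn (fun x => (r1 x, r2 x)) (S : Set (Module.End K V)) := by
        intro x hx y hy hxy
        simp only [Prod.mk.injEq] at hxy
        obtain ⟨k, hk, hxk⟩ := hss x hx
        obtain ⟨l, hl, hyl⟩ := hss y hy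
        refine eq_of_sq_sub_eq_zero (hcomm x hx y hy) hk hl hxk hyl ?_
        have hW0 : ∀ w ∈ W, (x - y) w = 0 := by
          intro w hw
          have := congrArg Subtype.val (LinearMap.congr_fun
            (show r1 x = r1 y from hxy.1) ⟨w, hw⟩)
          rw [e1 x hx, e1 y hy] at this
          simpa [sub_eq_zero] using this
        have hVW : ∀ v, (x - y) v ∈ W := by
          intro v
          have := LinearMap.congr_fun hxy.2 (Submodule.Quotient.mk v)
          rw [e2 x hx, e2 y hy] at this
          simpa [Submodule.Quotient.eq] using this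
        exact LinearMap.ext fun v => hW0 _ (hVW v)
      calc S.card = (S.image fun x => (r1 x, r2 x)).card := (Finset.card_image_of_injOn hinjS).symm
        _ ≤ (S.image r1 ×ˢ S.image r2).card := Finset.card_le_card (by
            intro a ha
            obtain ⟨x, hx, rfl⟩ := Finset.mem_image.mp ha
            exact Finset.mem_product.mpr
              ⟨Finset.mem_image_of_mem _ hx, Finset.mem_image_of_mem _ hx⟩)
        _ ≤ max 1 Λ.card ^ finrank K W * max 1 Λ.card ^ finrank K (V ⧸ W) := by
            rw [Finset.card_product]; exact Nat.mul_le_mul h1 h2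
        _ = max 1 Λ.card ^ finrank K V := by
            rw [← pow_add, add_comm, Submodule.finrank_quotient_add_finrank]

end

end Cfsg.Agent.BrauerFeit
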